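import Mathlib
import Cfsg.Agent.H249.DP.TwFCent
import Cfsg.Agent.H448.FprTwF.Row
import Cfsg.Agent.H448.FprTwF.Plus
import Cfsg.Agent.H248.TwF4Opp
import Cfsg.Agent.H127.TwFInv
import Cfsg.Agent.H448.FprTwF.SzPair
import Cfsg.Agent.KFacts.TwF4.Layers
import Cfsg.Agent.H448.FprCent.SteTor
import Cfsg.Agent.H525.ExtTw
import Cfsg.Agent.FastGrp
import Cfsg.Agent.Prune
set_option linter.all false

section
prune_inst 0x7ff8fff8afbcbfffffff7e7ffed9dffc39d0dfffefdffb43fffce1ff2fdf238a3de5fb8d1de0d8ff0e56e29e30b87813fbffffffeb6bdc7ffffd5ff41ffbee5ff7ffb58971d58c340fbc6fff93f07fce7f3fffffffffffffffffffffffffffbeffffffffffff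

-- part: H448/TwFC/Minus
section
prune_inst 0x5000350404000000000000006000202050000100000080003060080009065000800200004000090a000000800004000000000040420000000a0004000000000000a24000a2180c04000006801002000000000000000000000000000000041000000000000
set_option linter.all false
open scoped Cfsg.Agent.FastGrp

/-!
# Centralisers of elements of prime order dividing `q - 1` of `²F₄(q)` (helper448)

`card_cent_minus` : `|C(x)| ≤ q ^ 8` for `x` of prime order `p ∣ q - 1` of `²F₄(q)`, `q ≥ 8`.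
-/

set_option autoImplicit false
set_option linter.unusedSectionVars false

namespace Cfsg.Agent.H448.TwFC

open Cfsg.Agent.KFacts.TwF4 Cfsg.Agent.KFacts.TwF4.Full
open Cfsg.Agent.SplitTwo Cfsg.Agent.SplitTwo.ZS Cfsg.Agent.TitsThree.RankTwoZ
open Cfsg.Agent.SplitTwo.RootSysZ Subgroup MulAction Cfsg.Agent.H409 Cfsg.Lie
open Cfsg.Agent.H448.FprTwF Cfsg.Agent.H249.DP.TwF

universe u

variable {F : Type*} [Field F] {σ : F →+* F} {G : Type u} [Group G] (S : Full σ G)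

/-- a torus element centralises a root group or acts fixed-point-freely on it -/
theorem tk_or_fpf {t : G} (ht : t ∈ S.T) (k : ℤ) : t ∈ S.Tk k ∨ ∀ x ∈ S.XZ k, t * x * t⁻¹ = x → x = 1 := by
  obtain ⟨c, d, rfl⟩ := S.mem_T.1 ht
  obtain ⟨a, ha | ha⟩ := Int.even_or_odd' k
  · subst ha
    by_cases h : chE σ (a : ZMod 8) c d = 1
    · left
      refine ⟨ht, mem_centralizer_iff.2 fun x hx => ?_⟩
      obtain ⟨p, u, rfl⟩ := (S.mem_XZ_even a x).1 hx
      have h1 := S.h_e c d (a : ZMod 8) p u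
      rw [h, Units.val_one, map_one, one_mul, one_mul, one_mul] at h1
      exact (mul_inv_eq_iff_eq_mul.1 h1).symm
    · right
      intro x hx h1
      exact S.fpf_even h ((S.mem_XZ_even a x).1 hx) h1
  · subst ha
    by_cases h : chO σ (a : ZMod 8) c d = 1
    · left
      refine ⟨ht, mem_centralizer_iff.2 fun x hx => ?_⟩
      obtain ⟨p, rfl⟩ := (S.mem_XZ_odd a x).1 hx
      have h1 := S.h_o c d (a : ZMod 8) p
      rw [h, Units.val_one, one_mul] at h1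
      exact (mul_inv_eq_iff_eq_mul.1 h1).symm
    · right
      intro x hx h1
      exact S.fpf_odd h ((S.mem_XZ_odd a x).1 hx) h1

/-- regular torus elements -/
theorem card_cent_reg [Finite G] [Finite F] {t : G} (ht : t ∈ S.T)
    (hf : ∀ j : ℤ, 1 ≤ j → j ≤ 8 → ∀ x ∈ S.XZ j, t * x * t⁻¹ = x → x = 1) :
    Nat.card ↥(centralizer ({t} : Set G)) ≤ 32 * (Nat.card F - 1) ^ 2 := by
  have h1 := card_centralizer_le (K := B S) (T_le S ht)
  have h2 := fix_count' S (U_le S) (T_le S) (R := J S.XZ 1 8) (X := (⊥ : Subgroup G)) (t := t)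
    (fun b hb => ⟨b, hb, 1, one_mem _, (mul_one b).symm⟩)
    (fun y hy => S.T_conj_J ht hy) (fun y hy h =>
      S.fix_J_one ht (a := 1) (b := 8) (by norm_num) hf hy (by rw [h]; group))
  have h3 : Nat.card ↥(B S ⊓ centralizer ({t} : Set G)) ≤ Nat.card S.T := by
    have key : (B S ⊓ centralizer ({t} : Set G)) ≤ S.T := by
      intro g hg
      obtain ⟨⟨u, hu, s, hs, rfl⟩, hc⟩ := mem_inf.1 hg
      rw [mem_centralizer_singleton_iff] at hc
      have h1 : t * u * t⁻¹ = u := by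
        have h2 : s * t = t * s := S.T_comm hs ht
        have h3 : u * t * s = t * u * s := by
          rw [mul_assoc, ← h2, ← mul_assoc, hc, mul_assoc]
        rw [← mul_right_cancel h3, mul_inv_cancel_right]
      rw [S.fix_J_one ht (a := 1) (b := 8) (by norm_num) hf hu h1, one_mul]
      exact hs
    exact Nat.card_le_card_of_injective (Subgroup.inclusion key) (Subgroup.inclusion_injective key)
  have h4 : Nat.card S.T = (Nat.card F - 1) ^ 2 := Cfsg.Agent.H67.TwFFourOdd.card_torus S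
  rw [h4] at h3
  have h5 : Nat.card (⊥ : Subgroup G) = 1 := Subgroup.card_bot
  rw [h5, one_mul] at h2
  exact h1.trans (Nat.mul_le_mul h2 h3)

/-- **torus elements** -/
theorem card_cent_T [Finite G] [Finite F] (hq : 8 ≤ Nat.card F) {t : G} (ht : t ∈ S.T) (ht1 : t ≠ 1) :
    Nat.card ↥(centralizer ({t} : Set G)) ≤ Nat.card F ^ 8 := by
  have h64 : 64 ≤ Nat.card F ^ 2 := by nlinarith
  have hq1 : (Nat.card F - 1) ^ 2 ≤ Nat.card F ^ 2 := Nat.pow_le_pow_left (by omega) 2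
  by_cases hk : ∃ k : ℤ, 1 ≤ k ∧ k ≤ 8 ∧ t ∈ S.Tk k
  · obtain ⟨k, hk1, hk8, hk⟩ := hk
    obtain ⟨a, ha | ha⟩ := Int.even_or_odd' k
    · have h2 := S.ck_Tk (4 - a) hk
      rw [show k + 2 * (4 - a) = 8 by omega] at h2
      rw [card_cent_ck S (4 - a) t]
      refine (card_cent_eight S h2 ((MulEquiv.map_ne_one_iff _).2 ht1)).trans ?_
      calc 32 * Nat.card F ^ 4 * (Nat.card F - 1) ^ 2 ≤ Nat.card F ^ 2 * Nat.card F ^ 4 * Nat.card F ^ 2 := by
            gcongr; omega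
        _ = _ := by ring
    · have h2 := S.ck_Tk (-a) hk
      rw [show k + 2 * (-a) = 1 by omega] at h2
      rw [card_cent_ck S (-a) t]
      refine (card_cent_one S h2 ((MulEquiv.map_ne_one_iff _).2 ht1)).trans ?_
      calc 32 * Nat.card F ^ 2 * (Nat.card F - 1) ^ 2 ≤ Nat.card F ^ 2 * Nat.card F ^ 2 * Nat.card F ^ 2 := by
            gcongr; omega
        _ = Nat.card F ^ 6 := by ring
        _ ≤ _ := Nat.pow_le_pow_right (by omega) (by norm_num)
  · push Not at hk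
    refine (card_cent_reg S ht fun j h1 h8 => ?_).trans ?_
    · rcases tk_or_fpf S ht j with h | h
      · exact absurd h (hk j h1 h8)
      · exact h
    · calc 32 * (Nat.card F - 1) ^ 2 ≤ Nat.card F ^ 2 * Nat.card F ^ 2 := by gcongr; omega
        _ = Nat.card F ^ 4 := by ring
        _ ≤ _ := Nat.pow_le_pow_right (by omega) (by norm_num)

/-- elements of prime order `p ∣ q - 1` are conjugate into the torus -/
theorem exists_conj_T [Finite G] [Finite F] (hq : 2 ≤ Nat.card F)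
    (hcard : Nat.card G = Nat.card F ^ 12 * (Nat.card F - 1) * (Nat.card F ^ 3 + 1) * (Nat.card F ^ 4 - 1) *
      (Nat.card F ^ 6 + 1)) {p : ℕ} (hp : p.Prime) (hp2 : p ≠ 2) (hpq : p ∣ Nat.card F - 1) {x : G}
    (hx : orderOf x = p) : ∃ g : G, g⁻¹ * x * g ∈ S.T := by
  have := Fact.mk hp
  set q := Nat.card F with hqd
  have h4 : Nat.card S.T = (q - 1) ^ 2 := Cfsg.Agent.H67.TwFFourOdd.card_torus S
  have hR : S.T.index = q ^ 12 * ((q ^ 3 + 1) * ((q + 1) * (q ^ 2 + 1)) * (q ^ 6 + 1)) := by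
    have h1 := Subgroup.card_mul_index S.T
    rw [h4, hcard] at h1
    have h2 : q ^ 4 - 1 = (q - 1) * ((q + 1) * (q ^ 2 + 1)) := by
      obtain ⟨a, ha⟩ : ∃ a, q = a + 1 := ⟨q - 1, by omega⟩
      rw [ha, Nat.add_sub_cancel]
      have : (a + 1) ^ 4 = a * ((a + 1 + 1) * ((a + 1) ^ 2 + 1)) + 1 := by ring
      rw [this, Nat.add_sub_cancel]
    rw [h2] at h1
    refine Nat.eq_of_mul_eq_mul_left (pow_pos (by omega : 0 < q - 1) 2) (h1.trans ?_)
    ring
  have hnd : ¬ p ∣ S.T.index := by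
    have hqp : (q : ZMod p) = 1 := by
      have h1 := (ZMod.natCast_eq_zero_iff (q - 1) p).2 hpq
      rw [Nat.cast_sub (by omega), sub_eq_zero] at h1
      rw [h1, Nat.cast_one]
    have h2 : (2 : ZMod p) ≠ 0 := by
      intro h
      have h1 : ((2 : ℕ) : ZMod p) = 0 := by exact_mod_cast h
      rw [ZMod.natCast_eq_zero_iff] at h1
      exact hp2 ((Nat.prime_dvd_prime_iff_eq hp Nat.prime_two).1 h1)
    rw [← ZMod.natCast_eq_zero_iff, hR]
    push_cast
    rw [hqp]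
    have : (1 : ZMod p) ^ 12 * (((1 : ZMod p) ^ 3 + 1) * (((1 : ZMod p) + 1) * ((1 : ZMod p) ^ 2 + 1)) * ((1 : ZMod p) ^ 6 + 1)) =
        2 ^ 4 := by norm_num
    rw [this]
    exact pow_ne_zero 4 h2
  have hpg : IsPGroup p ↥(Subgroup.zpowers x) := by
    apply IsPGroup.of_card (n := 1)
    rw [Nat.card_zpowers, hx, pow_one]
  have hfin : Finite (G ⧸ S.T) := inferInstance
  obtain ⟨ω, hω⟩ := hpg.nonempty_fixed_point_of_prime_not_dvd_card (G ⧸ S.T) (by
    rw [← Subgroup.index_eq_card]; exact hnd)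
  obtain ⟨g, rfl⟩ := QuotientGroup.mk_surjective ω
  refine ⟨g, ?_⟩
  have h1 := hω ⟨x, Subgroup.mem_zpowers x⟩
  have h2 : ((x * g : G) : G ⧸ S.T) = (g : G ⧸ S.T) := h1
  have h3 := QuotientGroup.eq.1 h2.symm
  rwa [← mul_assoc] at h3

/-- **`|C(x)| ≤ q ^ 8` for `x` of prime order `p ∣ q - 1`.** -/
theorem card_cent_minus {F : Type u} [Field F] [Fintype F] {m : ℕ} (hm : 1 ≤ m) (hK : Fintype.card F = 2 ^ (2 * m + 1))
    {p : ℕ} (hp : p.Prime) (hpq : p ∣ Nat.card F - 1) {x : ↥(twistedF4 F (2 ^ m))} (hx : orderOf x = p) :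
    Nat.card ↥(centralizer ({x} : Set ↥(twistedF4 F (2 ^ m)))) ≤ Nat.card F ^ 8 := by
  obtain ⟨φ, hφ⟩ := Cfsg.Agent.ChevalleyStructure.TwF4.TwistedFix.exists_rln hK
  have := Cfsg.Agent.ChevalleyStructure.TwF4.Twisted.charP_two hK
  have hfin : Finite ↥(twistedF4 F (2 ^ m)) := inferInstance
  have hFc : Nat.card F = 2 ^ (2 * m + 1) := by rw [Nat.card_eq_fintype_card, hK]
  have h8 : 8 ≤ Nat.card F := by
    rw [hFc]
    calc 8 = 2 ^ 3 := by norm_num
      _ ≤ _ := Nat.pow_le_pow_right (by norm_num) (by omega)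
  have h2 : 2 ∣ Nat.card F := by rw [hFc]; exact dvd_pow_self 2 (by omega)
  have hp2 : p ≠ 2 := by
    rintro rfl
    omega
  have S : Full φ ↥(twistedF4 F (2 ^ m)) := Cfsg.Agent.KFacts.TwF4.Inst.full hK hφ
  have hcard : Nat.card ↥(twistedF4 F (2 ^ m)) = Nat.card F ^ 12 * (Nat.card F - 1) * (Nat.card F ^ 3 + 1) *
      (Nat.card F ^ 4 - 1) * (Nat.card F ^ 6 + 1) := by
    rw [hFc]; exact Cfsg.Agent.S1068.result hK
  obtain ⟨g, hg⟩ := exists_conj_T S (by omega) hcard hp hp2 hpq hx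
  have h1 : IsConj x (g⁻¹ * x * g) := isConj_iff.2 ⟨g⁻¹, by rw [inv_inv]⟩
  rw [Cfsg.Agent.Blocks.SylowIn.card_centralizer_of_isConj h1.symm]
  refine card_cent_T S h8 hg ?_
  intro h
  have h3 : x = 1 := by
    have e : x = g * (g⁻¹ * x * g) * g⁻¹ := by group
    rw [e, h]; group
  rw [h3, orderOf_one] at hx
  exact hp.one_lt.ne hx

end Cfsg.Agent.H448.TwFC
end

-- part: H67/RG/TwFCent
section
prune_inst 0x4000200000000400000000000000080002000000820002000101000000000000000000000000000000000000000000000000000000200000000200000000000000000000000000000000000000000000000000000000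
set_option linter.all false
open scoped Cfsg.Agent.FastGrp

-- part: H67/RG/TwFGeo
section
/-!
# Fixed points of semisimple elements on the two parabolic coset spaces of `²F₄(q)` (helper67)

`P = N(J lo (lo + 6))`, `lo = 1, 2`.  An element `x ∈ P` of odd prime order `p ∤ q - 1` fixes, besides `P`, only cosets
`r m P` with `r ∈ J lo (lo + 6)`, `m : k ↦ k + 8`; their number is at most the order of the centraliser of `x` in
`J lo (lo + 6)`.
-/

set_option autoImplicit false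
set_option linter.unusedSectionVars false

namespace Cfsg.Agent.H67.RG

open Cfsg.Agent.KFacts.TwF4 Cfsg.Agent.KFacts.TwF4.Full Cfsg.Agent.KFacts.TwF4.SylU
open Cfsg.Agent.SplitTwo Cfsg.Agent.SplitTwo.ZS Cfsg.Agent.TitsThree.RankTwoZ
open Cfsg.Agent.SplitTwo.RootSysZ Subgroup MulAction Cfsg.Agent.H448.FprTwF

universe u

variable {F : Type*} [Field F] {σ : F →+* F} {G : Type u} [Group G] (S : Full σ G)

/-- `g` maps `A` into `A` -/
def Nrm (A : Subgroup G) (g : G) : Prop := ∀ y ∈ A, g * y * g⁻¹ ∈ A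

theorem Nrm.mem [Finite G] {A : Subgroup G} {g : G} (h : Nrm A g) : g ∈ normalizer (A : Set G) := by
  let f : A → A := fun y => ⟨g * y * g⁻¹, h y y.2⟩
  have hinj : Function.Injective f := by
    intro a b hab
    have h1 : g * a * g⁻¹ = g * b * g⁻¹ := congrArg Subtype.val hab
    exact Subtype.ext (mul_left_cancel (mul_right_cancel h1))
  have hsurj := Finite.injective_iff_surjective.1 hinj
  rw [mem_normalizer_iff]
  intro y
  refine ⟨h y, fun hy => ?_⟩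
  obtain ⟨z, hz⟩ := hsurj ⟨g * y * g⁻¹, hy⟩
  have h1 : g * z * g⁻¹ = g * y * g⁻¹ := congrArg Subtype.val hz
  have h2 : (z : G) = y := mul_left_cancel (mul_right_cancel h1)
  rw [← h2]; exact z.2

theorem nrm_of_mem {A : Subgroup G} {g : G} (h : g ∈ normalizer (A : Set G)) : Nrm A g :=
  fun y hy => (mem_normalizer_iff.1 h y).1 hy

theorem conj_normalizer {A B : Subgroup G} {m : G} (hm : ∀ y, y ∈ A ↔ m * y * m⁻¹ ∈ B) {h : G}
    (hh : m⁻¹ * h * m ∈ normalizer (A : Set G)) : h ∈ normalizer (B : Set G) := by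
  rw [mem_normalizer_iff] at hh ⊢
  have key : ∀ y, y ∈ B ↔ m⁻¹ * y * m ∈ A := by
    intro y
    rw [hm]
    have e : m * (m⁻¹ * y * m) * m⁻¹ = y := by group
    rw [e]
  intro y
  rw [key, key, hh]
  have e : m⁻¹ * h * m * (m⁻¹ * y * m) * (m⁻¹ * h * m)⁻¹ = m⁻¹ * (h * y * h⁻¹) * m := by group
  rw [e]

theorem conj_normalizer' {A B : Subgroup G} {m : G} (hm : ∀ y, y ∈ A ↔ m * y * m⁻¹ ∈ B) {h : G}
    (hh : h ∈ normalizer (B : Set G)) : m⁻¹ * h * m ∈ normalizer (A : Set G) := by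
  refine conj_normalizer (A := B) (B := A) (m := m⁻¹) (fun y => ?_) ?_
  · rw [hm]
    have e : m * (m⁻¹ * y * m⁻¹⁻¹) * m⁻¹ = y := by group
    rw [e]
  · have e : m⁻¹⁻¹ * (m⁻¹ * h * m) * m⁻¹ = h := by group
    rwa [e]

/-- a map `k ↦ 2 c + k` on the subgroups `J` -/
theorem maps_J {m : G} {c : ℤ} (hm : Maps S.R.X m (fun k => ((2 * c : ℤ) : ZMod (2 * 8)) + k)) (a b : ℤ) (y : G) :
    y ∈ J S.XZ a b ↔ m * y * m⁻¹ ∈ J S.XZ (2 * c + a) (2 * c + b) := by
  have h1 := Cfsg.Agent.H248.TwF4Opp.cj_J_add S (w := m) (c := 2 * c) hm a b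
  rw [← h1]
  constructor
  · intro hy
    exact ⟨y, hy, rfl⟩
  · rintro ⟨z, hz, he⟩
    have h2 : m * z * m⁻¹ = m * y * m⁻¹ := he
    rw [← mul_left_cancel (mul_right_cancel h2)]
    exact hz

/-- a reflection on the subgroups `J` -/
theorem refl_J {n : G} {c : ℤ} (hn : _root_.Cfsg.Agent.SplitTwo.ZS.Refl S.XZ c n) (a b : ℤ) (y : G) :
    y ∈ J S.XZ a b ↔ n * y * n⁻¹ ∈ J S.XZ (c - b) (c - a) := by
  refine ⟨fun hy => hn.mem_J hy le_rfl le_rfl, fun hy => ?_⟩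
  have h1 := hn.mem_J_inv hy (a' := a) (b' := b) (by omega) (by omega)
  have e : n⁻¹ * (n * y * n⁻¹) * n = y := by group
  rwa [e] at h1

section Syl

variable [Finite G] [Finite F]

/-- every `J a (a + 7)` is conjugate to `J 1 8` -/
theorem exists_cj (a : ℤ) : ∃ g : G, ∀ y, y ∈ J S.XZ 1 8 ↔ g * y * g⁻¹ ∈ J S.XZ a (a + 7) := by
  obtain ⟨k, hk | hk⟩ := Int.even_or_odd' a
  · -- `a = 2 k`
    refine ⟨S.rot ^ (k - 1) * S.n1, fun y => ?_⟩
    rw [refl_J S S.n1_refl 1 8, maps_J S (S.rot_maps (k - 1))]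
    have e : S.rot ^ (k - 1) * (S.n1 * y * S.n1⁻¹) * (S.rot ^ (k - 1))⁻¹ =
        S.rot ^ (k - 1) * S.n1 * y * (S.rot ^ (k - 1) * S.n1)⁻¹ := by group
    rw [e, show 2 * (k - 1) + (10 - 8) = a by omega, show 2 * (k - 1) + (10 - 1) = a + 7 by omega]
  · refine ⟨S.rot ^ k, fun y => ?_⟩
    rw [maps_J S (S.rot_maps k), show 2 * k + 1 = a by omega, show 2 * k + 8 = a + 7 by omega]

variable (hF : ∃ c : Fˣ, c ≠ 1) (hR : S.R.p = 2)

include hR in
theorem two_J' (a : ℤ) {b : ℤ} (h1 : a ≤ b) (h2 : b ≤ a + 7) : IsPGroup 2 (J S.XZ a b) :=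
  Cfsg.Agent.H248.TwF4Opp.isPGroup_J' S hR h1 h2

include hF hR in
theorem card_le_U {W : Subgroup G} (hW : IsPGroup 2 W) : Nat.card W ≤ Nat.card (J S.XZ 1 8) := by
  have : Fact (Nat.Prime 2) := ⟨Nat.prime_two⟩
  obtain ⟨P, hP⟩ := exists_sylow S hF hR
  obtain ⟨Q, hQ⟩ := hW.exists_le_sylow
  rw [← hP]
  calc Nat.card W ≤ Nat.card Q := Subgroup.card_le_of_le hQ
    _ = Nat.card P := Nat.card_congr (Q.equiv P).toEquiv

theorem card_Ja (a : ℤ) : Nat.card (J S.XZ a (a + 7)) = Nat.card (J S.XZ 1 8) := by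
  obtain ⟨g, hg⟩ := exists_cj S a
  have hb : ∀ y : J S.XZ a (a + 7), g⁻¹ * (y : G) * g ∈ J S.XZ 1 8 := by
    intro y
    rw [hg]
    have e : g * (g⁻¹ * (y : G) * g) * g⁻¹ = y := by group
    rw [e]; exact y.2
  refine (Nat.card_congr ⟨fun y => ⟨g * y * g⁻¹, (hg _).1 y.2⟩, fun y => ⟨g⁻¹ * y * g, hb y⟩, fun y => ?_, fun y => ?_⟩).symm
  · apply Subtype.ext
    show g⁻¹ * (g * (y : G) * g⁻¹) * g = y
    group
  · apply Subtype.ext
    show g * (g⁻¹ * (y : G) * g) * g⁻¹ = y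
    group

include hF hR in
/-- `J a (a + 7)` is a maximal 2-subgroup -/
theorem eq_J {W : Subgroup G} (hW : IsPGroup 2 W) {a : ℤ} (h : J S.XZ a (a + 7) ≤ W) : W = J S.XZ a (a + 7) := by
  refine (Subgroup.eq_of_le_of_card_ge h ?_).symm
  rw [card_Ja S a]
  exact card_le_U S hF hR hW

include hF hR in
/-- an element of odd prime order normalising `J a (a + 7)` -/
theorem dvd_of_nrm {p : ℕ} (hp : p.Prime) (hp2 : p ≠ 2) {x : G} (hx : x ^ p = 1) (hx1 : x ≠ 1) {a : ℤ}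
    (h : x ∈ normalizer (J S.XZ a (a + 7) : Set G)) : p ∣ Nat.card F - 1 := by
  obtain ⟨g, hg⟩ := exists_cj S a
  have h1 := conj_normalizer' hg h
  obtain ⟨b, hb, t, ht, e⟩ := norm_U S hF hR (mem_normalizer_iff.1 h1)
  have hp' : (g⁻¹ * x * g) ^ p = 1 := by
    have := conj_pow (a := g⁻¹) (b := x) (i := p)
    rw [inv_inv] at this
    rw [this, hx]; group
  refine Cfsg.Agent.PreUniq.LowExc.TwF4.dvd_of_borel (S := S) hF hR hp hp2 hp' ?_ ?_
  · intro h0
    apply hx1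
    have e1 : x = g * (g⁻¹ * x * g) * g⁻¹ := by group
    rw [e1, h0]; group
  · rw [e]
    exact mul_mem (mem_sup_left hb) (mem_sup_right ht)

include hF hR in
/-- two different parabolics which are not opposite: their intersection normalises a Sylow 2-subgroup -/
theorem nrm_of_near {lo : ℤ} {c : ℤ} (h1 : -3 ≤ c) (h2 : c ≤ 3) (h0 : c ≠ 0) {h : G}
    (hh : h ∈ normalizer (J S.XZ lo (lo + 6) : Set G))
    (hh' : h ∈ normalizer (J S.XZ (2 * c + lo) (2 * c + (lo + 6)) : Set G)) :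
    ∃ a : ℤ, h ∈ normalizer (J S.XZ a (a + 7) : Set G) := by
  set A := J S.XZ lo (lo + 6) with hA
  set B := J S.XZ (2 * c + lo) (2 * c + (lo + 6)) with hB
  set! V : Subgroup G := normalizer (A : Set G) ⊓ B with hV
  have hAp : IsPGroup 2 A := two_J' S hR lo (by omega) (by omega)
  have hBp : IsPGroup 2 B := two_J' S hR _ (by omega) (by omega)
  have hVp : IsPGroup 2 V := hBp.to_le inf_le_right
  have hW : IsPGroup 2 (V ⊔ A : Subgroup G) := hVp.to_sup_of_normal_right' hAp inf_le_left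
  have hN : J S.XZ (lo - 1) (lo + 7) ≤ normalizer (A : Set G) := by
    have := S.zsys8.le_normalizer (a := lo) (b := lo + 6) (by omega)
    rwa [show lo + 6 + 1 = lo + 7 by ring] at this
  obtain ⟨a, ha⟩ : ∃ a : ℤ, J S.XZ a (a + 7) ≤ V ⊔ A := by
    rcases lt_or_gt_of_ne h0 with hc | hc
    · refine ⟨lo - 1, J_le fun k k1 k2 => ?_⟩
      by_cases hk : k = lo - 1
      · subst hk
        refine le_sup_of_le_left (le_inf ?_ (X_le_J (by omega) (by omega)))
        exact (X_le_J (by omega) (by omega)).trans hN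
      · exact le_sup_of_le_right (X_le_J (by omega) (by omega))
    · refine ⟨lo, J_le fun k k1 k2 => ?_⟩
      by_cases hk : k = lo + 7
      · subst hk
        refine le_sup_of_le_left (le_inf ?_ (X_le_J (by omega) (by omega)))
        exact (X_le_J (by omega) (by omega)).trans hN
      · exact le_sup_of_le_right (X_le_J (by omega) (by omega))
  refine ⟨a, ?_⟩
  rw [← eq_J S hF hR hW ha]
  apply Nrm.mem
  have hVn : Nrm V h := by
    intro y hy
    refine mem_inf.2 ⟨?_, (mem_normalizer_iff.1 hh' y).1 hy.2⟩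
    exact mul_mem (mul_mem hh hy.1) (inv_mem hh)
  have hAn : Nrm A h := nrm_of_mem hh
  intro y hy
  have h3 : V ⊔ A ≤ (V ⊔ A).comap (MulAut.conj h).toMonoidHom :=
    sup_le (fun z hz => (le_sup_left : V ≤ V ⊔ A) (hVn z hz)) (fun z hz => (le_sup_right : A ≤ V ⊔ A) (hAn z hz))
  exact h3 hy

include hF hR in
/-- `X_a ∩ J (a + 1) (a + 8) = 1` -/
theorem X_inf_J {a : ℤ} {y : G} (hy : y ∈ S.XZ a) (hy' : y ∈ J S.XZ (a + 1) (a + 8)) : y = 1 := by
  obtain ⟨k, hk | hk⟩ := Int.even_or_odd' a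
  · have h1 := S.rotk_X' (-k) a hy
    rw [show a + 2 * -k = 0 by omega] at h1
    have h2 := (maps_J S (S.rot_maps (-k)) (a + 1) (a + 8) y).1 hy'
    rw [show 2 * -k + (a + 1) = 1 by omega, show 2 * -k + (a + 8) = 8 by omega] at h2
    have h3 := (S.J07_inf_UT h1 h2 (one_mem S.T) (by rw [mul_one])).1
    have e : y = (S.rot ^ (-k))⁻¹ * (S.rot ^ (-k) * y * (S.rot ^ (-k))⁻¹) * S.rot ^ (-k) := by group
    rw [e, h3]; group
  · -- `a = 2 k + 1`: to `9` by a reflection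
    have h1 := S.rotk_X' (-k) a hy
    rw [show a + 2 * -k = 1 by omega] at h1
    have h2 := (maps_J S (S.rot_maps (-k)) (a + 1) (a + 8) y).1 hy'
    rw [show 2 * -k + (a + 1) = 2 by omega, show 2 * -k + (a + 8) = 9 by omega] at h2
    have h3 := S.n1_refl.mem' h1 (k := 9) (by norm_num)
    have h4 := S.n1_refl.mem_J h2 (a' := 1) (b' := 8) (by norm_num) (by norm_num)
    have h5 := Cfsg.Agent.H127.TwFInv.X9_inf_U S h3 h4
    have e : y = (S.rot ^ (-k))⁻¹ * (S.n1⁻¹ * (S.n1 * (S.rot ^ (-k) * y * (S.rot ^ (-k))⁻¹) * S.n1⁻¹) * S.n1) *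
        S.rot ^ (-k) := by group
    rw [e, h5]; group

include hF hR in
theorem J_inf_succ {a : ℤ} {y : G} (hy : y ∈ J S.XZ a (a + 7)) (hy' : y ∈ J S.XZ (a + 1) (a + 8)) :
    y ∈ J S.XZ (a + 1) (a + 7) := by
  obtain ⟨x, hx, z, hz, rfl⟩ := S.zsys8.split_ll (a := a) (b := a + 7) (by omega) (by omega) hy
  have h1 : x ∈ J S.XZ (a + 1) (a + 8) := by
    have := mul_mem hy' (inv_mem (J_mono le_rfl (by omega) hz : z ∈ J S.XZ (a + 1) (a + 8)))
    rwa [mul_inv_cancel_right] at this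
  rw [X_inf_J S hF hR hx h1, one_mul]
  exact hz

include hF hR in
/-- `J lo (lo + 6) ∩ N(J (lo + 8) (lo + 14)) = 1` -/
theorem inf_opp {lo : ℤ} {y : G} (hy : y ∈ J S.XZ lo (lo + 6))
    (hy' : y ∈ normalizer (J S.XZ (lo + 8) (lo + 14) : Set G)) : y = 1 := by
  set! A : Subgroup G := J S.XZ lo (lo + 6) ⊓ normalizer (J S.XZ (lo + 8) (lo + 14) : Set G) with hA
  have hAp : IsPGroup 2 A := (two_J' S hR lo (by omega) (by omega)).to_le inf_le_left
  have hBp : IsPGroup 2 (J S.XZ (lo + 8) (lo + 14)) := two_J' S hR _ (by omega) (by omega)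
  have hN : J S.XZ (lo - 1) (lo + 7) ≤ normalizer (J S.XZ lo (lo + 6) : Set G) := by
    have := S.zsys8.le_normalizer (a := lo) (b := lo + 6) (by omega)
    rwa [show lo + 6 + 1 = lo + 7 by ring] at this
  have hN' : J S.XZ (lo + 7) (lo + 15) ≤ normalizer (J S.XZ (lo + 8) (lo + 14) : Set G) := by
    have := S.zsys8.le_normalizer (a := lo + 8) (b := lo + 14) (by omega)
    rwa [show lo + 14 + 1 = lo + 15 by ring, show lo + 8 - 1 = lo + 7 by ring] at this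
  have hper : S.XZ (lo + 15) = S.XZ (lo - 1) := by
    have := Cfsg.Agent.H248.TwF4Opp.xz_per S (lo - 1) 1
    rwa [show lo - 1 + 16 * 1 = lo + 15 by ring] at this
  -- a root group normalising both
  have key : ∀ (X : Subgroup G), IsPGroup 2 X → X ≤ normalizer (J S.XZ lo (lo + 6) : Set G) →
      X ≤ normalizer (J S.XZ (lo + 8) (lo + 14) : Set G) → ∀ a : ℤ, (∀ k, a ≤ k → k ≤ a + 7 → S.XZ k ≤ X ⊔ J S.XZ (lo + 8) (lo + 14)) →
      A ≤ J S.XZ a (a + 7) := by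
    intro X hX h1 h2 a ha
    have hXA : X ≤ normalizer (A : Set G) := by
      intro x hx
      apply Nrm.mem
      intro z hz
      refine mem_inf.2 ⟨nrm_of_mem (h1 hx) z hz.1, ?_⟩
      exact mul_mem (mul_mem (h2 hx) hz.2) (inv_mem (h2 hx))
    have hW1 : IsPGroup 2 (X ⊔ A : Subgroup G) := hX.to_sup_of_normal_right' hAp hXA
    have hW1n : X ⊔ A ≤ normalizer (J S.XZ (lo + 8) (lo + 14) : Set G) := sup_le h2 inf_le_right
    have hW2 : IsPGroup 2 (X ⊔ A ⊔ J S.XZ (lo + 8) (lo + 14) : Subgroup G) := hW1.to_sup_of_normal_right' hBp hW1n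
    have h3 : J S.XZ a (a + 7) ≤ X ⊔ A ⊔ J S.XZ (lo + 8) (lo + 14) :=
      J_le fun k k1 k2 => (ha k k1 k2).trans (sup_le_sup_right le_sup_left _)
    rw [← eq_J S hF hR hW2 h3]
    exact (le_sup_right : A ≤ X ⊔ A).trans le_sup_left
  have hXp : ∀ k, IsPGroup 2 (S.XZ k) := fun k => by
    have := two_J' S hR k (b := k) le_rfl (by omega)
    rwa [J_self] at this
  have k1 := key (S.XZ (lo + 7)) (hXp _) ((X_le_J (by omega) (by omega)).trans hN) ((X_le_J (by omega) (by omega)).trans hN')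
    (lo + 7) (fun k h1 h2 => by
      by_cases hk : k = lo + 7
      · rw [hk]; exact le_sup_left
      · exact le_sup_of_le_right (X_le_J (by omega) (by omega)))
  have k2 := key (S.XZ (lo + 15)) (hXp _) (by rw [hper]; exact (X_le_J (by omega) (by omega)).trans hN)
    ((X_le_J (by omega) (by omega)).trans hN') (lo + 8) (fun k h1 h2 => by
      by_cases hk : k = lo + 15
      · rw [hk]; exact le_sup_left
      · exact le_sup_of_le_right (X_le_J (by omega) (by omega)))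
  have hyA : y ∈ A := mem_inf.2 ⟨hy, hy'⟩
  have h1 := k1 hyA
  have h2 := k2 hyA
  rw [show lo + 8 = (lo + 7) + 1 by ring, show lo + 7 + 1 + 7 = lo + 7 + 8 by ring] at h2
  have h3 := J_inf_succ S hF hR h1 h2
  have h4 := Cfsg.Agent.H248.TwF4Opp.J_opp S hF hR lo
  have h5 : y ∈ J S.XZ lo (lo + 6) ⊓ J S.XZ (lo + 8) (lo + 14) := by
    refine mem_inf.2 ⟨hy, ?_⟩
    rwa [show lo + 7 + 1 = lo + 8 by ring, show lo + 7 + 7 = lo + 14 by ring] at h3
  rw [h4] at h5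
  exact mem_bot.1 h5

end Syl

end Cfsg.Agent.H67.RG
end

-- part: H67/RG/TwFFix
section
/-!
# The order of the centraliser of a semisimple element in a parabolic subgroup of `²F₄(q)` (helper67)
-/

set_option autoImplicit false
set_option linter.unusedSectionVars false

namespace Cfsg.Agent.H67.RG

open Cfsg.Agent.KFacts.TwF4 Cfsg.Agent.KFacts.TwF4.Full Cfsg.Agent.KFacts.TwF4.SylU
open Cfsg.Agent.SplitTwo Cfsg.Agent.SplitTwo.ZS Cfsg.Agent.TitsThree.RankTwoZ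
open Cfsg.Agent.SplitTwo.RootSysZ Subgroup MulAction Cfsg.Agent.H448.FprTwF

universe u

variable {F : Type*} [Field F] {σ : F →+* F} {G : Type u} [Group G] (S : Full σ G)

theorem maps_of_refl {n : G} {c : ℤ} (hn : _root_.Cfsg.Agent.SplitTwo.ZS.Refl S.XZ c n) : Maps S.R.X n (fun k => ((c : ℤ) : ZMod (2 * 8)) - k) := by
  intro k x
  have h := hn (k.val : ℤ) x
  have hk : (((k.val : ℕ) : ℤ) : ZMod (2 * 8)) = k := by rw [Int.cast_natCast]; exact ZMod.natCast_zmod_val _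
  have h1 : x ∈ S.XZ (k.val : ℤ) ↔ x ∈ S.R.X k := by show x ∈ S.R.X _ ↔ _; rw [hk]
  have h2 : n * x * n⁻¹ ∈ S.XZ (c - (k.val : ℤ)) ↔ n * x * n⁻¹ ∈ S.R.X ((c : ZMod (2 * 8)) - k) := by
    show n * x * n⁻¹ ∈ S.R.X _ ↔ _
    rw [Int.cast_sub, hk]
  rw [← h1, h, h2]

/-- Bruhat form relative to a parabolic containing the reflection `k ↦ 2 s - k` -/
theorem form {s : ℤ} {n : G} (hn : _root_.Cfsg.Agent.SplitTwo.ZS.Refl S.XZ (2 * s) n) {P : Subgroup G} (hnP : n ∈ P) (hU : J S.XZ 1 8 ≤ P) (g : G) :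
    ∃ b ∈ J S.XZ 1 8, ∃ c : ℤ, -4 ≤ c ∧ c < 4 ∧ ∃ m, Maps S.R.X m (fun k => ((2 * c : ℤ) : ZMod (2 * 8)) + k) ∧
      ∃ p' ∈ P, g = b * m * p' := by
  obtain ⟨b, hb, t, ht, w, ⟨c0, hw⟩, b', hb', rfl⟩ := S.bruhatE g
  rcases hw with hw | hw
  · obtain ⟨c, h1, h2, h3⟩ := reduce c0 (-4)
    rw [h3] at hw
    exact ⟨b, hb, c, h1, by omega, t * w, torus_mul S ht hw, b', hU hb', by group⟩
  · obtain ⟨c, h1, h2, h3⟩ := reduce (c0 - s) (-4)
    have hm : Maps S.R.X (t * w * n) (fun k => ((2 * c : ℤ) : ZMod (2 * 8)) + k) := by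
      have h4 := (torus_mul S ht hw).mul (maps_of_refl S hn)
      intro k x
      have h5 := h4 k x
      rw [← h3]
      have e : ((2 * (c0 - s) : ℤ) : ZMod (2 * 8)) + k = ((2 * c0 : ℤ) : ZMod (2 * 8)) - (((2 * s : ℤ) : ZMod (2 * 8)) - k) := by
        push_cast; ring
      show t * w * n * x * (t * w * n)⁻¹ ∈ S.R.X (((2 * (c0 - s) : ℤ) : ZMod (2 * 8)) + k) ↔ _
      rw [e]
      exact h5
    exact ⟨b, hb, c, h1, by omega, t * w * n, hm, n⁻¹ * b', mul_mem (inv_mem hnP) (hU hb'), by group⟩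

section

variable [Finite G] [Finite F] (hF : ∃ c : Fˣ, c ≠ 1) (hR : S.R.p = 2)

theorem T_le_nJ (a b : ℤ) : S.T ≤ normalizer (J S.XZ a b : Set G) := T_le_N S a b

theorem J_le_nJ (lo : ℤ) : J S.XZ (lo - 1) (lo + 7) ≤ normalizer (J S.XZ lo (lo + 6) : Set G) := by
  have := S.zsys8.le_normalizer (a := lo) (b := lo + 6) (by omega)
  rwa [show lo + 6 + 1 = lo + 7 by ring] at this

include hF hR in
/-- **fixed cosets are equal or opposite** -/
theorem opp_of_fix {lo s : ℤ} (hlo : lo = 1 ∨ lo = 2) (hs : 2 * s = 2 * lo + 6) {n : G} (hn : _root_.Cfsg.Agent.SplitTwo.ZS.Refl S.XZ (2 * s) n)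
    {p : ℕ} (hp : p.Prime) (hp2 : p ≠ 2) (hpq : ¬ p ∣ Nat.card F - 1) {x : G} (hx : x ^ p = 1) (hx1 : x ≠ 1)
    (hxP : x ∈ normalizer (J S.XZ lo (lo + 6) : Set G)) {g : G}
    (hg : g⁻¹ * x * g ∈ normalizer (J S.XZ lo (lo + 6) : Set G)) :
    g ∈ normalizer (J S.XZ lo (lo + 6) : Set G) ∨
      ∃ r ∈ J S.XZ lo (lo + 6), g⁻¹ * (r * S.rot ^ (-4 : ℤ)) ∈ normalizer (J S.XZ lo (lo + 6) : Set G) := by
  set P : Subgroup G := normalizer (J S.XZ lo (lo + 6) : Set G) with hP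
  have hUP : J S.XZ 1 8 ≤ P := (J_mono (by omega) (by omega)).trans (J_le_nJ S lo)
  have hTP : S.T ≤ P := T_le_nJ S lo _
  have hnP : n ∈ P := by
    apply Nrm.mem
    intro y hy
    exact hn.mem_J hy (by omega) (by omega)
  obtain ⟨b, hb, c, hc1, hc2, m, hm, p', hp', rfl⟩ := form S hn hnP hUP g
  have hbP : b ∈ P := hUP hb
  have hh1 : b⁻¹ * x * b ∈ P := mul_mem (mul_mem (inv_mem hbP) hxP) hbP
  have hh2 : m⁻¹ * (b⁻¹ * x * b) * m ∈ P := by
    have e : m⁻¹ * (b⁻¹ * x * b) * m = p' * ((b * m * p')⁻¹ * x * (b * m * p')) * p'⁻¹ := by group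
    rw [e]
    exact mul_mem (mul_mem hp' hg) (inv_mem hp')
  have hh3 := conj_normalizer (maps_J S hm lo (lo + 6)) hh2
  by_cases h0 : c = 0
  · left
    subst h0
    have hmT : m ∈ S.T := by
      intro k z
      have := hm k z
      have e : ((2 * 0 : ℤ) : ZMod (2 * 8)) + k = k := by push_cast; ring
      change m * z * m⁻¹ ∈ S.R.X (((2 * 0 : ℤ) : ZMod (2 * 8)) + k) ↔ _ at this
      rw [e] at this
      exact this
    exact mul_mem (mul_mem hbP (hTP hmT)) hp'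
  by_cases h4 : c = -4
  · right
    subst h4
    obtain ⟨r, hr, y, hy, hyP, rfl⟩ : ∃ r ∈ J S.XZ lo (lo + 6), ∃ y : G, (∃ k, (k = lo - 1 ∨ k = lo + 7) ∧ y ∈ S.XZ k) ∧
        m⁻¹ * y * m ∈ P ∧ b = r * y := by
      have hcase : ∀ k : ℤ, (k = lo - 1 ∨ k = lo + 7) → ∀ y ∈ S.XZ k, m⁻¹ * y * m ∈ P := by
        intro k hk y hy
        have h5 : y ∈ S.XZ (2 * (-4) + (k + 8)) := by rwa [show 2 * (-4) + (k + 8) = k by ring]
        have h6 : m⁻¹ * y * m ∈ J S.XZ (k + 8) (k + 8) := by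
          rw [maps_J S hm]
          have e : m * (m⁻¹ * y * m) * m⁻¹ = y := by group
          rw [e, J_self]
          exact h5
        rw [J_self] at h6
        rcases hk with rfl | rfl
        · exact (X_le_J (by omega) (by omega)).trans (J_le_nJ S lo) h6
        · have h7 := Cfsg.Agent.H248.TwF4Opp.xz_per S (lo - 1) 1
          rw [show lo + 7 + 8 = lo - 1 + 16 * 1 by ring, h7] at h6
          exact (X_le_J (by omega) (by omega)).trans (J_le_nJ S lo) h6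
      rcases hlo with rfl | rfl
      · obtain ⟨r, hr, y, hy, e⟩ := S.zsys8.split_rr (a := 1) (b := 8) (by norm_num) (by norm_num) hb
        exact ⟨r, hr, y, ⟨8, by norm_num, hy⟩, hcase 8 (by norm_num) y hy, e⟩
      · obtain ⟨r, hr, y, hy, e⟩ := S.zsys8.split_lr (a := 1) (b := 8) (by norm_num) (by norm_num) hb
        exact ⟨r, hr, y, ⟨1, by norm_num, hy⟩, hcase 1 (by norm_num) y hy, e⟩
    refine ⟨r, hr, ?_⟩
    have h5 : m⁻¹ * S.rot ^ (-4 : ℤ) ∈ S.T := maps_div S hm (S.rot_maps (-4))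
    have e : (r * y * m * p')⁻¹ * (r * S.rot ^ (-4 : ℤ)) = p'⁻¹ * (m⁻¹ * y * m)⁻¹ * (m⁻¹ * S.rot ^ (-4 : ℤ)) := by group
    rw [e]
    exact mul_mem (mul_mem (inv_mem hp') (inv_mem hyP)) (hTP h5)
  · exfalso
    obtain ⟨a, ha⟩ := nrm_of_near S hF hR (c := c) (by omega) (by omega) h0 hh1 hh3
    apply hpq
    refine dvd_of_nrm S hF hR hp hp2 (x := b⁻¹ * x * b) ?_ ?_ ha
    · have := conj_pow (a := b⁻¹) (b := x) (i := p)
      rw [inv_inv] at this
      rw [this, hx]; group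
    · intro h
      apply hx1
      have e : x = b * (b⁻¹ * x * b) * b⁻¹ := by group
      rw [e, h]; group

include hF hR in
/-- **the number of fixed cosets** -/
theorem card_fix_le {lo s : ℤ} (hlo : lo = 1 ∨ lo = 2) (hs : 2 * s = 2 * lo + 6) {n : G} (hn : _root_.Cfsg.Agent.SplitTwo.ZS.Refl S.XZ (2 * s) n)
    {p : ℕ} (hp : p.Prime) (hp2 : p ≠ 2) (hpq : ¬ p ∣ Nat.card F - 1) {x : G} (hx : x ^ p = 1) (hx1 : x ≠ 1)
    (hxP : x ∈ normalizer (J S.XZ lo (lo + 6) : Set G)) :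
    Nat.card (fixedBy (G ⧸ normalizer (J S.XZ lo (lo + 6) : Set G)) x) ≤
      Nat.card ↥(J S.XZ lo (lo + 6) ⊓ centralizer ({x} : Set G)) + 1 := by
  classical
  set A := J S.XZ lo (lo + 6) with hA
  set P : Subgroup G := normalizer (A : Set G) with hP
  set D : Subgroup G := A ⊓ centralizer ({x} : Set G) with hD
  set! m : G := S.rot ^ (-4 : ℤ) with hmdef
  have hm : Maps S.R.X m (fun k => ((2 * (-4) : ℤ) : ZMod (2 * 8)) + k) := S.rot_maps (-4)
  -- the opposite radical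
  have hB : J S.XZ (2 * (-4) + lo) (2 * (-4) + (lo + 6)) = J S.XZ (lo + 8) (lo + 14) := by
    have := Cfsg.Agent.H248.TwF4Opp.J_per S (2 * (-4) + lo) (2 * (-4) + (lo + 6)) 1
    rw [← this]
    congr 1 <;> ring
  have hAP : A ≤ P := (J_mono (by omega) (by omega)).trans (J_le_nJ S lo)
  have hfix : ∀ g : G, ((g : G) : G ⧸ P) ∈ fixedBy (G ⧸ P) x → g⁻¹ * x * g ∈ P := by
    intro g hg
    have h1 : ((x * g : G) : G ⧸ P) = (g : G ⧸ P) := hg
    have h2 := QuotientGroup.eq.1 h1.symm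
    have e : g⁻¹ * x * g = g⁻¹ * (x * g) := by group
    rwa [e]
  have hopp : ∀ r ∈ A, ((r * m : G) : G ⧸ P) ∈ fixedBy (G ⧸ P) x → r⁻¹ * x * r ∈ normalizer (J S.XZ (lo + 8) (lo + 14) : Set G) := by
    intro r hr h
    have h1 := hfix _ h
    rw [← hB]
    refine conj_normalizer (maps_J S hm lo (lo + 6)) ?_
    have e : m⁻¹ * (r⁻¹ * x * r) * m = (r * m)⁻¹ * x * (r * m) := by group
    rw [e]
    exact h1
  by_cases hex : ∃ r0 ∈ A, ((r0 * m : G) : G ⧸ P) ∈ fixedBy (G ⧸ P) x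
  · obtain ⟨r0, hr0, h0⟩ := hex
    have hy0 := hopp r0 hr0 h0
    let f : Option D → G ⧸ P := fun d => match d with
      | none => ((1 : G) : G ⧸ P)
      | some d => (((d : G) * r0 * m : G) : G ⧸ P)
    have hsub : (fixedBy (G ⧸ P) x) ⊆ Set.range f := by
      intro ω hω
      obtain ⟨g, rfl⟩ := QuotientGroup.mk_surjective ω
      rcases opp_of_fix S hF hR hlo hs hn hp hp2 hpq hx hx1 hxP (hfix g hω) with h1 | ⟨r, hr, h1⟩
      · refine ⟨none, ?_⟩
        show ((1 : G) : G ⧸ P) = _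
        rw [QuotientGroup.eq]
        simpa using h1
      · have e1 : ((g : G) : G ⧸ P) = ((r * m : G) : G ⧸ P) := by
          rw [QuotientGroup.eq]; exact h1
        have h2 : ((r * m : G) : G ⧸ P) ∈ fixedBy (G ⧸ P) x := by rw [← e1]; exact hω
        have h3 := hopp r hr h2
        -- `v = r0⁻¹ r` commutes with `r0⁻¹ x r0`
        have hv : r0⁻¹ * r ∈ A := mul_mem (inv_mem hr0) hr
        have h4 : (r⁻¹ * x * r) * (r0⁻¹ * x * r0)⁻¹ ∈ normalizer (J S.XZ (lo + 8) (lo + 14) : Set G) :=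
          mul_mem h3 (inv_mem hy0)
        have h5 : (r⁻¹ * x * r) * (r0⁻¹ * x * r0)⁻¹ ∈ A := by
          have hy0P : r0⁻¹ * x * r0 ∈ P := mul_mem (mul_mem (inv_mem (hAP hr0)) hxP) (hAP hr0)
          have h6 := nrm_of_mem hy0P _ hv
          have e : (r⁻¹ * x * r) * (r0⁻¹ * x * r0)⁻¹ =
              (r0⁻¹ * r)⁻¹ * ((r0⁻¹ * x * r0) * (r0⁻¹ * r) * (r0⁻¹ * x * r0)⁻¹) := by group
          rw [e]
          exact mul_mem (inv_mem hv) h6
        have h7 := inf_opp S hF hR h5 h4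
        have h8 : r⁻¹ * x * r = r0⁻¹ * x * r0 := mul_inv_eq_one.1 h7
        have h9 : r * r0⁻¹ ∈ D := by
          refine mem_inf.2 ⟨mul_mem hr (inv_mem hr0), ?_⟩
          rw [mem_centralizer_singleton_iff]
          calc r * r0⁻¹ * x = r * (r0⁻¹ * x * r0) * r0⁻¹ := by group
            _ = r * (r⁻¹ * x * r) * r0⁻¹ := by rw [h8]
            _ = x * (r * r0⁻¹) := by group
        refine ⟨some ⟨r * r0⁻¹, h9⟩, ?_⟩
        show ((r * r0⁻¹ * r0 * m : G) : G ⧸ P) = _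
        rw [e1, inv_mul_cancel_right]
    calc Nat.card (fixedBy (G ⧸ P) x) = (fixedBy (G ⧸ P) x).ncard := Nat.card_coe_set_eq _
      _ ≤ (Set.range f).ncard := Set.ncard_le_ncard hsub (Set.toFinite _)
      _ = Nat.card (Set.range f) := (Nat.card_coe_set_eq _).symm
      _ ≤ Nat.card (Option D) := Nat.card_le_card_of_surjective (Set.rangeFactorization f) Set.rangeFactorization_surjective
      _ = Nat.card D + 1 := Finite.card_option
  · push Not at hex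
    have hsub : (fixedBy (G ⧸ P) x) ⊆ {((1 : G) : G ⧸ P)} := by
      intro ω hω
      obtain ⟨g, rfl⟩ := QuotientGroup.mk_surjective ω
      rcases opp_of_fix S hF hR hlo hs hn hp hp2 hpq hx hx1 hxP (hfix g hω) with h1 | ⟨r, hr, h1⟩
      · rw [Set.mem_singleton_iff, eq_comm, QuotientGroup.eq]
        simpa using h1
      · exfalso
        have e1 : ((g : G) : G ⧸ P) = ((r * m : G) : G ⧸ P) := by
          rw [QuotientGroup.eq]; exact h1
        exact hex r hr (by rw [← e1]; exact hω)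
    calc Nat.card (fixedBy (G ⧸ P) x) = (fixedBy (G ⧸ P) x).ncard := Nat.card_coe_set_eq _
      _ ≤ ({((1 : G) : G ⧸ P)} : Set (G ⧸ P)).ncard := Set.ncard_le_ncard hsub (Set.toFinite _)
      _ = 1 := Set.ncard_singleton _
      _ ≤ _ := Nat.le_add_left _ _

end

end Cfsg.Agent.H67.RG
end

-- part: H67/RG/TwFBor
section
/-!
# The centraliser of a semisimple element in a parabolic subgroup of `²F₄(q)` (helper67)
-/

set_option autoImplicit false
set_option linter.unusedSectionVars false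

namespace Cfsg.Agent.H67.RG

open Cfsg.Agent.KFacts.TwF4 Cfsg.Agent.KFacts.TwF4.Full Cfsg.Agent.KFacts.TwF4.SylU
open Cfsg.Agent.SplitTwo Cfsg.Agent.SplitTwo.ZS Cfsg.Agent.TitsThree.RankTwoZ
open Cfsg.Agent.SplitTwo.RootSysZ Subgroup MulAction Cfsg.Agent.H448.FprTwF

universe u

variable {F : Type*} [Field F] {σ : F →+* F} {G : Type u} [Group G] (S : Full σ G)

theorem refl_T {n : G} {c : ℤ} (hn : _root_.Cfsg.Agent.SplitTwo.ZS.Refl S.XZ c n) {t : G} (ht : t ∈ S.T) : n * t * n⁻¹ ∈ S.T := by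
  have hm := maps_of_refl S hn
  have h1 : ∀ (k : ZMod (2 * 8)) (x : G), n * t * x * (n * t)⁻¹ ∈ S.R.X (((c : ℤ) : ZMod (2 * 8)) - k) ↔ x ∈ S.R.X k := by
    intro k x
    have e : n * t * x * (n * t)⁻¹ = n * (t * x * t⁻¹) * n⁻¹ := by group
    have h2 := hm k (t * x * t⁻¹)
    have h3 := ht k x
    simp only [id] at h3
    rw [e, h2, h3]
  intro k x
  have h3 := h1 (((c : ℤ) : ZMod (2 * 8)) - k) (n⁻¹ * x * n)
  have h4 := hm (((c : ℤ) : ZMod (2 * 8)) - k) (n⁻¹ * x * n)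
  have e1 : n * (n⁻¹ * x * n) * n⁻¹ = x := by group
  have e2 : n * t * (n⁻¹ * x * n) * (n * t)⁻¹ = n * t * n⁻¹ * x * (n * t * n⁻¹)⁻¹ := by group
  simp only [e1, e2, sub_sub_cancel] at h3 h4
  show n * t * n⁻¹ * x * (n * t * n⁻¹)⁻¹ ∈ S.R.X k ↔ x ∈ S.R.X k
  rw [h4, h3]

theorem refl_sq {n : G} {c : ℤ} (hn : _root_.Cfsg.Agent.SplitTwo.ZS.Refl S.XZ c n) : n * n ∈ S.T := by
  have hm := maps_of_refl S hn
  intro k x
  have h1 := hm k x
  have h2 := hm (((c : ℤ) : ZMod (2 * 8)) - k) (n * x * n⁻¹)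
  have e : n * (n * x * n⁻¹) * n⁻¹ = n * n * x * (n * n)⁻¹ := by group
  simp only [e, sub_sub_cancel] at h2
  show n * n * x * (n * n)⁻¹ ∈ S.R.X k ↔ x ∈ S.R.X k
  rw [← h1]
  exact h2

section

variable [Finite G] [Finite F] (hF : ∃ c : Fˣ, c ≠ 1) (hR : S.R.p = 2)

/-- the data of a parabolic `P = N(A)`, `A = J lo (lo + 6)`, `U = A X_j`, with the reflection `n` -/
structure Par (lo j : ℤ) (n : G) : Prop where
  split : ∀ u ∈ J S.XZ 1 8, ∃ a ∈ J S.XZ lo (lo + 6), ∃ y ∈ S.XZ j, u = a * y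
  XU : S.XZ j ≤ J S.XZ 1 8
  AU : J S.XZ lo (lo + 6) ≤ J S.XZ 1 8
  inf : ∀ y ∈ S.XZ j, n * y * n⁻¹ ∈ Bo S → y = 1
  nA : ∀ a ∈ J S.XZ lo (lo + 6), n * a * n⁻¹ ∈ J S.XZ lo (lo + 6)
  nT : ∀ t ∈ S.T, n * t * n⁻¹ ∈ S.T
  nn : n * n ∈ S.T
  cover : ∀ g ∈ normalizer (J S.XZ lo (lo + 6) : Set G), (∃ u ∈ J S.XZ 1 8, ∃ t ∈ S.T, g = u * t) ∨
      ∃ u ∈ J S.XZ 1 8, ∃ t ∈ S.T, ∃ x ∈ S.XZ j, g = u * t * n * x
  UP : J S.XZ 1 8 ≤ normalizer (J S.XZ lo (lo + 6) : Set G)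

theorem par28 : Par S 2 1 S.n1 where
  split u hu := S.zsys8.split_lr (a := 1) (b := 8) (by norm_num) (by norm_num) hu
  XU := X_le_J (by norm_num) (by norm_num)
  AU := J_mono (by norm_num) (by norm_num)
  inf y hy h := by
    have h1 := Cfsg.Agent.H127.TwFInv.X9_inf_BT S (S.n1_refl.mem' hy (k := 9) (by norm_num)) h
    have e : y = S.n1⁻¹ * (S.n1 * y * S.n1⁻¹) * S.n1 := by group
    rw [e, h1]; group
  nA a ha := S.n1_refl.mem_J ha (by norm_num) (by norm_num)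
  nT t ht := refl_T S S.n1_refl ht
  nn := refl_sq S S.n1_refl
  cover := cover28 S
  UP := U_le_N28 S

theorem par17 : Par S 1 8 S.n2 where
  split u hu := S.zsys8.split_rr (a := 1) (b := 8) (by norm_num) (by norm_num) hu
  XU := X_le_J (by norm_num) (by norm_num)
  AU := J_mono (by norm_num) (by norm_num)
  inf y hy h := by
    have h1 := Cfsg.Agent.H127.TwFInv.X0_inf_BT S (S.n2_refl.mem' hy (k := 0) (by norm_num)) h
    have e : y = S.n2⁻¹ * (S.n2 * y * S.n2⁻¹) * S.n2 := by group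
    rw [e, h1]; group
  nA a ha := S.n2_refl.mem_J ha (by norm_num) (by norm_num)
  nT t ht := refl_T S S.n2_refl ht
  nn := refl_sq S S.n2_refl
  cover := cover17 S
  UP := U_le_N17 S

variable {S}

theorem Par.X_inf_A {lo j : ℤ} {n : G} (H : Par S lo j n) {y : G} (hy : y ∈ S.XZ j) (hy' : y ∈ J S.XZ lo (lo + 6)) :
    y = 1 := H.inf y hy (mem_sup_left (H.AU (H.nA y hy')))

theorem Par.uniq {lo j : ℤ} {n : G} (H : Par S lo j n) {a b a' b' t t' : G} (ha : a ∈ J S.XZ lo (lo + 6))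
    (hb : b ∈ S.XZ j) (ha' : a' ∈ J S.XZ lo (lo + 6)) (hb' : b' ∈ S.XZ j) (ht : t ∈ S.T) (ht' : t' ∈ S.T)
    (h : a * b * t = a' * b' * t') : b = b' := by
  have h1 : (a' * b')⁻¹ * (a * b) = t' * t⁻¹ := by
    rw [eq_mul_inv_iff_mul_eq, mul_assoc, h]; group
  have h2 : t' * t⁻¹ = 1 := by
    apply S.U_inf_T (mul_mem ht' (inv_mem ht))
    rw [← h1]
    exact mul_mem (inv_mem (mul_mem (H.AU ha') (H.XU hb'))) (mul_mem (H.AU ha) (H.XU hb))
  rw [h2, inv_mul_eq_one] at h1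
  have h3 : a⁻¹ * a' = b * b'⁻¹ := by
    rw [eq_mul_inv_iff_mul_eq, mul_assoc, h1]; group
  have h4 := H.X_inf_A (mul_mem hb (inv_mem hb')) (by rw [← h3]; exact mul_mem (inv_mem ha) ha')
  exact mul_inv_eq_one.1 h4

include hF hR in
/-- `C_P(x) ∩ U T ≤ A T_j` -/
theorem Par.key {lo j : ℤ} {n : G} (H : Par S lo j n)
    {p : ℕ} (hp : p.Prime) (hp2 : p ≠ 2) (hpq : ¬ p ∣ Nat.card F - 1) {x : G} (hx : x ^ p = 1) (hx1 : x ≠ 1)
    (hxP : x ∈ normalizer (J S.XZ lo (lo + 6) : Set G)) {c : G} (hc : c ∈ Bo S) (hcx : c * x = x * c) :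
    ∃ t ∈ S.Tk j, c * t⁻¹ ∈ J S.XZ lo (lo + 6) := by
  have hAP : J S.XZ lo (lo + 6) ≤ normalizer (J S.XZ lo (lo + 6) : Set G) := H.AU.trans H.UP
  have hBo : ¬ x ∈ Bo S := fun h => hpq (Cfsg.Agent.PreUniq.LowExc.TwF4.dvd_of_borel (S := S) hF hR hp hp2 hx hx1 h)
  rcases H.cover x hxP with ⟨u, hu, t, ht, e⟩ | ⟨u, hu, t, ht, y, hy, e⟩
  · exact absurd (e ▸ mul_mem (mem_sup_left hu) (mem_sup_right ht)) hBo
  · -- `x' = y x y⁻¹ = b n`
    have hyU := H.XU hy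
    obtain ⟨a2, ha2, y2, hy2, e2⟩ := H.split (y * u) (mul_mem hyU hu)
    have ex : y * x * y⁻¹ = a2 * y2 * t * n := by rw [← e2, e]; group
    have hyB : y ∈ Bo S := mem_sup_left hyU
    have hc' : y * c * y⁻¹ ∈ Bo S := mul_mem (mul_mem hyB hc) (inv_mem hyB)
    have hcx' : y * c * y⁻¹ * (a2 * y2 * t * n) = a2 * y2 * t * n * (y * c * y⁻¹) := by
      rw [← ex]
      calc y * c * y⁻¹ * (y * x * y⁻¹) = y * (c * x) * y⁻¹ := by group
        _ = y * (x * c) * y⁻¹ := by rw [hcx]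
        _ = _ := by group
    obtain ⟨u1, hu1, t1, ht1, e1⟩ := Cfsg.Agent.H127.TwFInv.form_BT S hc'
    obtain ⟨a1, ha1, y1, hy1, e3⟩ := H.split u1 hu1
    -- the `X`-part is trivial
    have h1 : y1 = 1 := by
      apply H.inf y1 hy1
      have e4 : n * y1 * n⁻¹ = (n * a1 * n⁻¹)⁻¹ * ((a2 * y2 * t)⁻¹ * (a1 * y1 * t1) * (a2 * y2 * t)) * (n * t1 * n⁻¹)⁻¹ := by
        have h5 : a1 * y1 * t1 * (a2 * y2 * t) = a2 * y2 * t * (n * (a1 * y1 * t1) * n⁻¹) := by
          have h6 := hcx'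
          rw [e1, e3] at h6
          calc a1 * y1 * t1 * (a2 * y2 * t) = a1 * y1 * t1 * (a2 * y2 * t * n) * n⁻¹ := by group
            _ = a2 * y2 * t * n * (a1 * y1 * t1) * n⁻¹ := by rw [h6]
            _ = _ := by group
        have h7 : (a2 * y2 * t)⁻¹ * (a1 * y1 * t1) * (a2 * y2 * t) = n * (a1 * y1 * t1) * n⁻¹ := by
          rw [mul_assoc, h5]; group
        rw [h7]; group
      rw [e4]
      have hb2 : a2 * y2 * t ∈ Bo S := mul_mem (mem_sup_left (mul_mem (H.AU ha2) (H.XU hy2))) (mem_sup_right ht)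
      have hb1 : a1 * y1 * t1 ∈ Bo S := mul_mem (mem_sup_left (mul_mem (H.AU ha1) (H.XU hy1))) (mem_sup_right ht1)
      exact mul_mem (mul_mem (inv_mem (mem_sup_left (H.AU (H.nA _ ha1))))
        (mul_mem (mul_mem (inv_mem hb2) hb1) hb2)) (inv_mem (mem_sup_right (H.nT _ ht1)))
    subst h1
    rw [mul_one] at e3
    subst e3
    rw [e1] at hcx'
    -- the torus part fixes `y2`
    have h2 : t1 * y2 * t1⁻¹ = y2 := by
      refine H.uniq (a := u1 * (t1 * a2 * t1⁻¹)) (t := t1 * t) (a' := a2 * ((y2 * t) * (n * u1 * n⁻¹) * (y2 * t)⁻¹))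
        (t' := t * (n * t1 * n⁻¹)) ?_ ?_ ?_ hy2 (mul_mem ht1 ht) (mul_mem ht (H.nT _ ht1)) ?_
      · exact mul_mem ha1 (S.T_conj_J ht1 ha2)
      · exact S.T_conj ht1 _ hy2
      · refine mul_mem ha2 ?_
        have h3 : y2 * t ∈ normalizer (J S.XZ lo (lo + 6) : Set G) :=
          mul_mem (H.UP (H.XU hy2)) (T_le_nJ S lo _ ht)
        exact nrm_of_mem h3 _ (H.nA _ ha1)
      · calc u1 * (t1 * a2 * t1⁻¹) * (t1 * y2 * t1⁻¹) * (t1 * t) = u1 * t1 * (a2 * y2 * t * n) * n⁻¹ := by group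
          _ = a2 * y2 * t * n * (u1 * t1) * n⁻¹ := by rw [hcx']
          _ = _ := by group
    have h3 : y2 ≠ 1 := by
      rintro rfl
      rw [mul_one] at ex
      have h4 : (y * x * y⁻¹) * (y * x * y⁻¹) ∈ Bo S := by
        rw [ex]
        have e5 : a2 * t * n * (a2 * t * n) = a2 * (t * (n * a2 * n⁻¹) * t⁻¹) * (t * (n * t * n⁻¹) * (n * n)) := by group
        rw [e5]
        exact mul_mem (mem_sup_left (H.AU (mul_mem ha2 (S.T_conj_J ht (H.nA _ ha2)))))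
          (mem_sup_right (mul_mem (mul_mem ht (H.nT _ ht)) H.nn))
      have h5 : x * x ∈ Bo S := by
        have e6 : x * x = y⁻¹ * ((y * x * y⁻¹) * (y * x * y⁻¹)) * y := by group
        rw [e6]
        exact mul_mem (mul_mem (inv_mem hyB) h4) hyB
      apply hBo
      obtain ⟨k, hk⟩ := hp.eq_two_or_odd'.resolve_left hp2
      have h6 : (x * x) ^ (k + 1) = x := by
        rw [← pow_two, ← pow_mul, show 2 * (k + 1) = p + 1 by omega, pow_succ, hx, one_mul]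
      rw [← h6]
      exact pow_mem h5 _
    have h4 := Cfsg.Agent.H248.TwF4Opp.Tk_of_fix S ht1 hy2 h3 h2
    refine ⟨t1, h4, ?_⟩
    have h5 : y * t1⁻¹ = t1⁻¹ * y := by
      have h6 := Subgroup.mem_centralizer_iff.1 (inv_mem h4.2) y hy
      exact h6
    have e7 : c * t1⁻¹ = y⁻¹ * u1 * y := by
      have e8 : c = y⁻¹ * (y * c * y⁻¹) * y := by group
      rw [e8, e1]
      calc y⁻¹ * (u1 * t1) * y * t1⁻¹ = y⁻¹ * (u1 * t1) * (y * t1⁻¹) := by group
        _ = y⁻¹ * (u1 * t1) * (t1⁻¹ * y) := by rw [h5]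
        _ = _ := by group
    rw [e7]
    have h7 := nrm_of_mem (inv_mem (H.UP hyU)) u1 ha1
    rwa [inv_inv] at h7

include hF hR in
theorem Par.card_inf {lo j : ℤ} {n : G} (H : Par S lo j n)
    {p : ℕ} (hp : p.Prime) (hp2 : p ≠ 2) (hpq : ¬ p ∣ Nat.card F - 1) {x : G} (hx : x ^ p = 1) (hx1 : x ≠ 1)
    (hxP : x ∈ normalizer (J S.XZ lo (lo + 6) : Set G)) :
    Nat.card ↥(Bo S ⊓ centralizer ({x} : Set G)) ≤
      Nat.card ↥(J S.XZ lo (lo + 6) ⊓ centralizer ({x} : Set G)) * Nat.card (S.Tk j) := by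
  classical
  set D : Subgroup G := J S.XZ lo (lo + 6) ⊓ centralizer ({x} : Set G) with hD
  set C : Subgroup G := Bo S ⊓ centralizer ({x} : Set G) with hC
  have h1 : ∀ c : C, ∃ t : S.Tk j, (c : G) * (t : G)⁻¹ ∈ J S.XZ lo (lo + 6) := by
    intro c
    obtain ⟨t, ht, h⟩ := H.key hF hR hp hp2 hpq hx hx1 hxP c.2.1 (mem_centralizer_singleton_iff.1 c.2.2)
    exact ⟨⟨t, ht⟩, h⟩
  choose f hf using h1
  have h2 : ∀ c c' : C, f c = f c' → (c : G) * (c' : G)⁻¹ ∈ D := by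
    intro c c' h
    refine mem_inf.2 ⟨?_, mul_mem c.2.2 (inv_mem c'.2.2)⟩
    have h3 := mul_mem (hf c) (inv_mem (hf c'))
    rw [← h] at h3
    have e : (c : G) * (f c : G)⁻¹ * ((c' : G) * (f c : G)⁻¹)⁻¹ = (c : G) * (c' : G)⁻¹ := by group
    rwa [e] at h3
  have : Nonempty C := ⟨1⟩
  let s := Function.invFun f
  have hs : ∀ c, f (s (f c)) = f c := fun c => Function.invFun_eq ⟨c, rfl⟩
  let F' : C → D × S.Tk j := fun c => (⟨(c : G) * (s (f c) : G)⁻¹, h2 _ _ (hs c).symm⟩, f c)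
  have hF' : Function.Injective F' := by
    intro c c' h
    have h3 : f c = f c' := congrArg Prod.snd h
    have h4 : (c : G) * (s (f c) : G)⁻¹ = (c' : G) * (s (f c') : G)⁻¹ := congrArg Subtype.val (congrArg Prod.fst h)
    rw [h3] at h4
    exact Subtype.ext (mul_right_cancel h4)
  calc Nat.card C ≤ Nat.card (D × S.Tk j) := Nat.card_le_card_of_injective F' hF'
    _ = _ := Nat.card_prod _ _

include hF hR in
/-- **the centraliser in the parabolic** -/
theorem Par.card_cent {lo j : ℤ} {n : G} (H : Par S lo j n)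
    {p : ℕ} (hp : p.Prime) (hp2 : p ≠ 2) (hpq : ¬ p ∣ Nat.card F - 1) {x : G} (hx : x ^ p = 1) (hx1 : x ≠ 1)
    (hxP : x ∈ normalizer (J S.XZ lo (lo + 6) : Set G)) :
    Nat.card ↥(normalizer (J S.XZ lo (lo + 6) : Set G) ⊓ centralizer ({x} : Set G)) ≤
      (Nat.card (S.XZ j) + 1) *
        (Nat.card ↥(J S.XZ lo (lo + 6) ⊓ centralizer ({x} : Set G)) * Nat.card (S.Tk j)) := by
  set P := normalizer (J S.XZ lo (lo + 6) : Set G) with hP
  set C : Subgroup G := P ⊓ centralizer ({x} : Set G) with hC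
  have hBP : Bo S ≤ P := sup_le H.UP (T_le_nJ S lo _)
  have h1 : (Bo S).relIndex P ≤ Nat.card (S.XZ j) + 1 := by
    have h2 := card_le S H.cover
    rw [← Subgroup.card_mul_index ((Bo S).subgroupOf P)] at h2
    have h3 : Nat.card ((Bo S).subgroupOf P) = Nat.card (Bo S) := Nat.card_congr (Subgroup.subgroupOfEquivOfLe hBP).toEquiv
    rw [h3] at h2
    exact Nat.le_of_mul_le_mul_left h2 Nat.card_pos
  have h2 : (Bo S).relIndex C ≤ (Bo S).relIndex P :=
    Subgroup.relIndex_le_of_le_right inf_le_left Subgroup.index_ne_zero_of_finite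
  have h3 : Nat.card ((Bo S).subgroupOf C) * (Bo S).relIndex C = Nat.card C := Subgroup.card_mul_index _
  have h4 : Nat.card ((Bo S).subgroupOf C) ≤ Nat.card ↥(Bo S ⊓ centralizer ({x} : Set G)) := by
    refine Nat.card_le_card_of_injective (fun y => (⟨((y : C) : G), mem_inf.2 ⟨mem_subgroupOf.1 y.2, (y : C).2.2⟩⟩ :
      ↥(Bo S ⊓ centralizer ({x} : Set G)))) ?_
    intro a b hab
    apply Subtype.ext
    apply Subtype.ext
    have h5 := congrArg (fun z : ↥(Bo S ⊓ centralizer ({x} : Set G)) => (z : G)) hab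
    exact h5
  rw [← h3, mul_comm]
  exact Nat.mul_le_mul (h2.trans h1) (h4.trans (H.card_inf hF hR hp hp2 hpq hx hx1 hxP))

theorem card_Tk1 : Nat.card (S.Tk 1) ≤ Nat.card F - 1 := by
  classical
  have h : ∀ t : S.Tk 1, ∃ c : Fˣ, S.h c c⁻¹ = t := fun t => S.mem_Tk_one.1 t.2
  choose f hf using h
  have hinj : Function.Injective f := by
    intro a b hab
    apply Subtype.ext
    rw [← hf a, ← hf b, hab]
  calc Nat.card (S.Tk 1) ≤ Nat.card Fˣ := Nat.card_le_card_of_injective f hinj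
    _ = _ := Nat.card_units F

theorem card_Tk8 : Nat.card (S.Tk 8) ≤ Nat.card F - 1 := by
  classical
  have h : ∀ t : S.Tk 8, ∃ c : Fˣ, S.h 1 c = S.ck (-4) t := fun t => S.mem_Tk_zero.1 (by
    have := S.ck_Tk (-4) t.2
    rwa [show (8 : ℤ) + 2 * (-4) = 0 by norm_num] at this)
  choose f hf using h
  have hinj : Function.Injective f := by
    intro a b hab
    apply Subtype.ext
    have h1 : S.ck (-4) (a : G) = S.ck (-4) b := by rw [← hf a, ← hf b, hab]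
    exact mul_left_cancel (mul_right_cancel h1)
  calc Nat.card (S.Tk 8) ≤ Nat.card Fˣ := Nat.card_le_card_of_injective f hinj
    _ = _ := Nat.card_units F

include hF hR in
/-- **class 2B**: `|C(x)| ≤ (|D| + 1) |D| (q + 1) (q - 1)` -/
theorem card_cent28 {p : ℕ} (hp : p.Prime) (hp2 : p ≠ 2) (hpq : ¬ p ∣ Nat.card F - 1) {x : G} (hx : x ^ p = 1)
    (hx1 : x ≠ 1) (hxP : x ∈ normalizer (J S.XZ 2 8 : Set G)) :
    Nat.card ↥(centralizer ({x} : Set G)) ≤
      (Nat.card ↥(J S.XZ 2 8 ⊓ centralizer ({x} : Set G)) + 1) *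
        ((Nat.card F + 1) * (Nat.card ↥(J S.XZ 2 8 ⊓ centralizer ({x} : Set G)) * (Nat.card F - 1))) := by
  have h1 := card_fix_le S hF hR (lo := 2) (s := 5) (Or.inr rfl) (by norm_num) (n := S.n1) (by
    rw [show (2 : ℤ) * 5 = 10 by norm_num]; exact S.n1_refl) hp hp2 hpq hx hx1 hxP
  have h2 := (par28 S).card_cent hF hR hp hp2 hpq hx hx1 hxP
  have h3 := Cfsg.Agent.H249.DP.TwF.card_centralizer_le hxP
  rw [show (2 : ℤ) + 6 = 8 by norm_num] at h1 h2
  rw [card_X1' S] at h2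
  refine h3.trans (Nat.mul_le_mul h1 (h2.trans ?_))
  exact Nat.mul_le_mul le_rfl (Nat.mul_le_mul le_rfl card_Tk1)

include hF hR in
/-- **class 2A**: `|C(x)| ≤ (|D| + 1) |D| (q² + 1) (q - 1)` -/
theorem card_cent17 {p : ℕ} (hp : p.Prime) (hp2 : p ≠ 2) (hpq : ¬ p ∣ Nat.card F - 1) {x : G} (hx : x ^ p = 1)
    (hx1 : x ≠ 1) (hxP : x ∈ normalizer (J S.XZ 1 7 : Set G)) :
    Nat.card ↥(centralizer ({x} : Set G)) ≤
      (Nat.card ↥(J S.XZ 1 7 ⊓ centralizer ({x} : Set G)) + 1) *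
        ((Nat.card F ^ 2 + 1) * (Nat.card ↥(J S.XZ 1 7 ⊓ centralizer ({x} : Set G)) * (Nat.card F - 1))) := by
  have h1 := card_fix_le S hF hR (lo := 1) (s := 4) (Or.inl rfl) (by norm_num) (n := S.n2) (by
    rw [show (2 : ℤ) * 4 = 8 by norm_num]; exact S.n2_refl) hp hp2 hpq hx hx1 hxP
  have h2 := (par17 S).card_cent hF hR hp hp2 hpq hx hx1 hxP
  have h3 := Cfsg.Agent.H249.DP.TwF.card_centralizer_le hxP
  rw [show (1 : ℤ) + 6 = 7 by norm_num] at h1 h2
  rw [card_X8' S] at h2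
  refine h3.trans (Nat.mul_le_mul h1 (h2.trans ?_))
  exact Nat.mul_le_mul le_rfl (Nat.mul_le_mul le_rfl card_Tk8)

end

end Cfsg.Agent.H67.RG
end

-- part: H67/RG/TwFD
section
/-!
# Centralisers of semisimple elements in the radicals of the maximal parabolics of `²F₄(q)` (helper67)
-/

set_option autoImplicit false
set_option linter.unusedSectionVars false

namespace Cfsg.Agent.H67.RG

open Cfsg.Agent.KFacts.TwF4 Cfsg.Agent.KFacts.TwF4.Full Cfsg.Agent.KFacts.TwF4.SylU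
open Cfsg.Agent.SplitTwo Cfsg.Agent.SplitTwo.ZS Cfsg.Agent.TitsThree.RankTwoZ
open Cfsg.Agent.SplitTwo.RootSysZ Subgroup MulAction Cfsg.Agent.H448.FprTwF

universe u

theorem card_le_of_fib {G : Type*} [Group G] [Finite G] {D E : Subgroup G} {T : Type*} [Finite T] (f : D → T)
    (h : ∀ c c' : D, f c = f c' → (c : G) * (c' : G)⁻¹ ∈ E) : Nat.card D ≤ Nat.card E * Nat.card T := by
  classical
  have : Nonempty D := ⟨1⟩
  let s := Function.invFun f
  have hs : ∀ c, f (s (f c)) = f c := fun c => Function.invFun_eq ⟨c, rfl⟩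
  let F' : D → E × T := fun c => (⟨(c : G) * (s (f c) : G)⁻¹, h _ _ (hs c).symm⟩, f c)
  have hF' : Function.Injective F' := by
    intro c c' hc
    have h3 : f c = f c' := congrArg Prod.snd hc
    have h4 : (c : G) * (s (f c) : G)⁻¹ = (c' : G) * (s (f c') : G)⁻¹ := congrArg Subtype.val (congrArg Prod.fst hc)
    rw [h3] at h4
    exact Subtype.ext (mul_right_cancel h4)
  calc Nat.card D ≤ Nat.card (E × T) := Nat.card_le_card_of_injective F' hF'
    _ = _ := Nat.card_prod _ _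

variable {F : Type*} [Field F] {σ : F →+* F} {G : Type u} [Group G] (S : Full σ G)

section

variable [Finite G] [Finite F] (hF : ∃ c : Fˣ, c ≠ 1) (hR : S.R.p = 2)

theorem card_Zc (a : ZMod 8) : Nat.card (S.Zc a) ≤ Nat.card F := by
  have h : ∀ z : S.Zc a, ∃ u, S.e a 0 u = z := fun z => z.2
  choose f hf using h
  refine Nat.card_le_card_of_injective f fun z z' hz => Subtype.ext ?_
  rw [← hf z, ← hf z', hz]

include hF hR in
/-- **class 2A**: `|C_Q(x)| ≤ q²` -/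
theorem card_D17 {p : ℕ} (hp : p.Prime) (hp2 : p ≠ 2) (hpq : ¬ p ∣ Nat.card F - 1) {x : G} (hx : orderOf x = p)
    (hxP : x ∈ S.PL) : Nat.card ↥(J S.XZ 1 7 ⊓ centralizer ({x} : Set G)) ≤ Nat.card F ^ 2 := by
  have hfact : Fact p.Prime := ⟨hp⟩
  have hxp : x ^ p = 1 := by rw [← hx]; exact pow_orderOf_eq_one x
  have hx1 : x ≠ 1 := by
    rintro rfl
    rw [orderOf_one] at hx
    exact hp.one_lt.ne hx
  have hpl : ∀ s ∈ S.Q2, x * s = s * x → s ∈ S.Zc 2 := by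
    intro s hs h
    by_contra h4
    exact hpq (Cfsg.Agent.PreUniq.LowExc.TwF4.pl_case S hF hR hp hp2 hxp hx1 hxP hs h4 h)
  have hQ1 : ∀ c : ↥(J S.XZ 1 7 ⊓ centralizer ({x} : Set G)), (c : G) ∈ S.Q1 := fun c =>
    cent_Q1 S hR hp2 hxP hx hpl c.2.1 (mem_centralizer_singleton_iff.1 c.2.2).symm
  have hform : ∀ c : ↥(J S.XZ 1 7 ⊓ centralizer ({x} : Set G)), ∃ a : F, ∃ z ∈ S.Q2, (c : G) = S.e 2 a 0 * z := by
    intro c
    obtain ⟨y, hy, z, hz, e⟩ := mem_sup_of_norm (A := S.XZ 4) (B := S.Q2) (fun a ha b hb => by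
      have h1 := S.Q1_comm (mem_sup_left ha : a ∈ S.Q1) hb
      rw [h1, mul_inv_cancel_right]; exact hb) (hQ1 c)
    obtain ⟨a, b, rfl⟩ := S.X4 hy
    refine ⟨a, S.e 2 0 b * z, mul_mem (S.q2_3 b) hz, ?_⟩
    rw [e, ← mul_assoc, S.e_mul, map_zero, mul_zero, add_zero, zero_add, add_zero]
  choose f z hz hf using hform
  have h1 := card_le_of_fib (E := S.Zc 2) f (fun c c' h => by
    have hc : (c : G) * (c' : G)⁻¹ ∈ S.Q2 := by
      rw [hf c, hf c', h]
      have e : S.e 2 (f c') 0 * z c * (S.e 2 (f c') 0 * z c')⁻¹ = S.e 2 (f c') 0 * (z c * (z c')⁻¹) * (S.e 2 (f c') 0)⁻¹ := by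
        group
      have h2 := S.Q1_comm (mem_sup_left (S.mX4 (f c') 0) : S.e 2 (f c') 0 ∈ S.Q1) (mul_mem (hz c) (inv_mem (hz c')))
      rw [e, h2, mul_inv_cancel_right]
      exact mul_mem (hz c) (inv_mem (hz c'))
    refine hpl _ hc ?_
    exact (mem_centralizer_singleton_iff.1 (mul_mem c.2.2 (inv_mem c'.2.2))).symm)
  calc _ ≤ Nat.card (S.Zc 2) * Nat.card F := h1
    _ ≤ Nat.card F * Nat.card F := Nat.mul_le_mul (card_Zc S 2) le_rfl
    _ = _ := (pow_two _).symm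

/-- `P` acts on `V5` -/
theorem conj_X5 {g y : G} (hg : g ∈ normalizer (J S.XZ 2 8 : Set G)) (hy : y ∈ S.XZ 5) : g * y * g⁻¹ ∈ S.V5 := by
  have hJ : J S.XZ 1 8 ≤ J S.XZ 1 9 := J_mono le_rfl (by norm_num)
  have key : ∀ u ∈ J S.XZ 1 8, ∀ t ∈ S.T, u * t * y * (u * t)⁻¹ ∈ S.V5 := by
    intro u hu t ht
    have h1 : t * y * t⁻¹ ∈ S.XZ 5 := S.T_conj ht 5 hy
    have h2 := S.comm_five (hJ hu) h1
    have e : u * t * y * (u * t)⁻¹ = (u * (t * y * t⁻¹) * u⁻¹ * (t * y * t⁻¹)⁻¹) * (t * y * t⁻¹) := by group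
    rw [e]
    exact mul_mem (mem_sup_left h2) (mem_sup_right h1)
  rcases cover28 S g hg with ⟨u, hu, t, ht, rfl⟩ | ⟨u, hu, t, ht, x, hx, rfl⟩
  · exact key u hu t ht
  · have h1 : S.n1 * x ∈ S.LO := mul_mem S.n1_mem_LO (mem_sup_left hx)
    have h2 : y * (S.n1 * x) = S.n1 * x * y := mem_centralizer_iff.1 (S.LO_le_cent h1) y hy
    have e : u * t * S.n1 * x * y * (u * t * S.n1 * x)⁻¹ = u * t * (S.n1 * x * y) * (S.n1 * x)⁻¹ * (u * t)⁻¹ := by group
    rw [e, ← h2]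
    have e2 : u * t * (y * (S.n1 * x)) * (S.n1 * x)⁻¹ * (u * t)⁻¹ = u * t * y * (u * t)⁻¹ := by group
    rw [e2]
    exact key u hu t ht

/-- the part in `W46` of an element of `V5` commuting with `x ∈ HO` -/
theorem mem_X5_of_V5 (hF : ∃ c : Fˣ, c ≠ 1) (hR : S.R.p = 2) {p : ℕ} (hp : p.Prime) (hp2 : p ≠ 2)
    (hpq : ¬ p ∣ Nat.card F - 1) {x : G} (hx : x ^ p = 1) (hx1 : x ≠ 1) (hxH : x ∈ S.HO) {v : G} (hv : v ∈ S.V5)
    (hc : v * x = x * v) : v ∈ S.XZ 5 := by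
  obtain ⟨w, hw, y, hy, rfl⟩ := Cfsg.Agent.KFacts.TwF4.Layers.V5_form S hv
  have hyx : y * x = x * y := mem_centralizer_iff.1 (S.HO_le_cent hxH) y hy
  have hwx : x * w = w * x := by
    have h1 : w * (x * y) = x * w * y := by rw [← hyx, ← mul_assoc, hc, mul_assoc]
    rw [← mul_assoc] at h1
    exact (mul_right_cancel h1).symm
  have hw1 : w = 1 := by
    by_contra hw1
    exact hpq (Cfsg.Agent.PreUniq.LowExc.TwF4.ho_case S hF hR hp hp2 hx hx1 hxH hw hw1 hwx)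
  rw [hw1, one_mul]
  exact hy

theorem HO_le_N28 : S.HO ≤ normalizer (J S.XZ 2 8 : Set G) := (Cfsg.Agent.KFacts.TwF4.Perf.HO_le_J S).trans (J19_le_N28 S)

include hF hR in
/-- **the involutions of `C_{J 2 8}(x)`** -/
theorem inv_mem_X5 {p : ℕ} (hp : p.Prime) (hp2 : p ≠ 2) (hpq : ¬ p ∣ Nat.card F - 1) {x : G} (hx : orderOf x = p)
    (hxH : x ∈ S.HO) {s : G} (hs : s ∈ J S.XZ 2 8) (hs2 : s * s = 1) (hsx : s * x = x * s) : s ∈ S.XZ 5 := by
  have hfact : Fact p.Prime := ⟨hp⟩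
  have hxp : x ^ p = 1 := by rw [← hx]; exact pow_orderOf_eq_one x
  have hx1 : x ≠ 1 := by
    rintro rfl
    rw [orderOf_one] at hx
    exact hp.one_lt.ne hx
  by_cases hs1 : s = 1
  · rw [hs1]; exact one_mem _
  have hcen : ∀ k : G, k * x * k⁻¹ * (k * s * k⁻¹) = k * s * k⁻¹ * (k * x * k⁻¹) := by
    intro k
    calc k * x * k⁻¹ * (k * s * k⁻¹) = k * (x * s) * k⁻¹ := by group
      _ = k * (s * x) * k⁻¹ := by rw [hsx]
      _ = _ := by group
  have hbt : ∀ {K : Subgroup G} {n : ℕ} {y : G}, Nat.card K = Nat.card ↥(K ⊓ (J S.XZ 1 8 ⊔ S.T)) * n → y ∈ K →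
      orderOf y = p → p ∣ n := by
    intro K n y hK hy ho
    have h1 : p ∣ Nat.card K := by
      rw [← ho]
      exact Subgroup.orderOf_dvd_natCard K hy
    rw [hK] at h1
    rcases hp.dvd_mul.1 h1 with h2 | h2
    · exact absurd (Cfsg.Agent.H127.TwFInv.prime_BT S hR hp hp2 (h2.trans (Subgroup.card_dvd_of_le inf_le_right))) hpq
    · exact h2
  rcases classes S hF hR hs2 hs1 with ⟨u, hu, k, hk⟩ | ⟨r, hr, k, hk⟩
  · exfalso
    have e1 : S.rot * (S.rot * k) * s * (S.rot * (S.rot * k))⁻¹ = S.e 2 0 u := by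
      calc S.rot * (S.rot * k) * s * (S.rot * (S.rot * k))⁻¹ = S.rot * (S.rot * (k * s * k⁻¹) * S.rot⁻¹) * S.rot⁻¹ := by
            group
        _ = S.e 2 0 u := by rw [hk, S.rot_e, S.rot_e]; rfl
    have hz1 : S.e 2 0 u ≠ 1 := fun h => hu (S.e_eq_one h).2
    set g := S.rot * (S.rot * k)
    have h1 : g * x * g⁻¹ ∈ S.PL := by
      rw [← S.centralizer_z (z := S.e 2 0 u) ⟨u, rfl⟩ hz1, Subgroup.mem_centralizer_singleton_iff, ← e1]
      exact hcen _
    have h2 := hbt (Cfsg.Agent.H127.TwFInv.card_PL S) h1 (by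
      rw [← hx]
      exact orderOf_injective (MulAut.conj g).toMonoidHom (MulAut.conj g).injective x)
    have h3 := hbt (Cfsg.Agent.H127.TwFInv.card_HO S) hxH hx
    have h4 : p ∣ 2 := by
      have hq : 1 ≤ Nat.card F := Nat.card_pos
      obtain ⟨q, hq'⟩ : ∃ q, Nat.card F = q + 1 := ⟨Nat.card F - 1, by omega⟩
      rw [hq'] at h2 h3
      have h5 : 1 + (q + 1) * (q + 1) = (1 + (q + 1)) * q + 2 := by ring
      rw [h5] at h2
      exact (Nat.dvd_add_right (h3.mul_right q)).1 h2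
    exact hp2 ((Nat.prime_dvd_prime_iff_eq hp Nat.prime_two).1 h4)
  · have e1 : S.rot * (S.rot * k) * s * (S.rot * (S.rot * k))⁻¹ = S.o 2 r := by
      calc S.rot * (S.rot * k) * s * (S.rot * (S.rot * k))⁻¹ = S.rot * (S.rot * (k * s * k⁻¹) * S.rot⁻¹) * S.rot⁻¹ := by
            group
        _ = S.o 2 r := by rw [hk, S.rot_o, S.rot_o]; rfl
    set h := S.rot * (S.rot * k)
    have h1 : h * x * h⁻¹ ∈ S.HO := by
      rw [← S.centralizer_o hr, Subgroup.mem_centralizer_singleton_iff, ← e1]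
      exact hcen _
    -- `g = h⁻¹`
    have hg : (h⁻¹)⁻¹ * x * h⁻¹ ∈ normalizer (J S.XZ 2 (2 + 6) : Set G) := by
      rw [inv_inv, show (2 : ℤ) + 6 = 8 by norm_num]
      exact HO_le_N28 S h1
    have hxP : x ∈ normalizer (J S.XZ 2 (2 + 6) : Set G) := by
      rw [show (2 : ℤ) + 6 = 8 by norm_num]
      exact HO_le_N28 S hxH
    have es : s = h⁻¹ * S.o 2 r * h⁻¹⁻¹ := by rw [← e1]; group
    have h5 : S.o 2 r ∈ S.XZ 5 := S.mX5 r
    rcases opp_of_fix S hF hR (lo := 2) (s := 5) (Or.inr rfl) (by norm_num) (n := S.n1) (by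
      rw [show (2 : ℤ) * 5 = 10 by norm_num]; exact S.n1_refl) hp hp2 hpq hxp hx1 hxP hg with h2 | ⟨r', hr', h2⟩
    · rw [show (2 : ℤ) + 6 = 8 by norm_num] at h2
      refine mem_X5_of_V5 S hF hR hp hp2 hpq hxp hx1 hxH ?_ hsx
      rw [es]
      exact conj_X5 S h2 h5
    · exfalso
      rw [show (2 : ℤ) + 6 = 8 by norm_num] at h2 hr'
      set m : G := S.rot ^ (-4 : ℤ) with hmdef
      have hm : Maps S.R.X m (fun k => ((2 * (-4) : ℤ) : ZMod (2 * 8)) + k) := S.rot_maps (-4)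
      set d := h⁻¹⁻¹ * (r' * m) with hd
      have e2 : h⁻¹ = r' * m * d⁻¹ := by rw [hd]; group
      have h6 : d⁻¹ * S.o 2 r * d⁻¹⁻¹ ∈ J S.XZ 2 8 :=
        J_mono (by norm_num) (by norm_num) (S.V5_le_NO (conj_X5 S (inv_mem h2) h5)).1
      have h7 := (maps_J S hm 2 8 _).1 h6
      have hB : J S.XZ (2 * (-4) + 2) (2 * (-4) + 8) = J S.XZ 10 16 := by
        have := Cfsg.Agent.H248.TwF4Opp.J_per S (2 * (-4) + 2) (2 * (-4) + 8) 1
        rw [← this]
        norm_num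
      rw [hB] at h7
      have e3 : m * (d⁻¹ * S.o 2 r * d⁻¹⁻¹) * m⁻¹ = r'⁻¹ * s * r' := by
        rw [es, e2]; group
      rw [e3] at h7
      have h8 : r'⁻¹ * s * r' ∈ J S.XZ 2 8 := mul_mem (mul_mem (inv_mem hr') hs) hr'
      have h9 := Cfsg.Agent.H248.TwF4Opp.J_opp S hF hR 2
      have h10 : r'⁻¹ * s * r' ∈ J S.XZ 2 (2 + 6) ⊓ J S.XZ (2 + 8) (2 + 14) := by
        rw [show (2 : ℤ) + 6 = 8 by norm_num, show (2 : ℤ) + 8 = 10 by norm_num, show (2 : ℤ) + 14 = 16 by norm_num]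
        exact ⟨h8, h7⟩
      rw [h9, mem_bot] at h10
      apply hs1
      have e4 : s = r' * (r'⁻¹ * s * r') * r'⁻¹ := by group
      rw [e4, h10]; group

/-- the square of an element of `Z_2 X_3 X_4 X_5 X_6` -/
theorem sq_form (u t a b c d f : F) :
    S.e 1 0 u * S.o 1 t * (S.e 2 a b * S.o 2 c * S.e 3 d f) * (S.e 1 0 u * S.o 1 t * (S.e 2 a b * S.o 2 c * S.e 3 d f)) =
      S.e 2 0 (a * σ a + t * d) * S.e 3 0 (d * σ d) * S.o 2 (a * d) := by
  have E1 : S.e 1 0 u * S.o 1 t = S.o 1 t * S.e 1 0 u := S.e_o0 1 0 u t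
  have E2 : S.e 1 0 u * S.e 2 a b = S.e 2 a b * S.e 1 0 u := by
    have := S.e_e1 1 0 u a b
    rw [zero_mul, S.o_zero, mul_one] at this
    exact this
  have E3 : S.e 1 0 u * S.o 2 c = S.o 2 c * S.e 1 0 u := by
    have := S.e_o1 1 0 u c
    rw [zero_mul, S.e_zero, mul_one] at this
    exact this
  have E4 : S.e 1 0 u * S.e 3 d f = S.e 3 d f * S.e 1 0 u := S.e_e2 1 0 u d f
  have O2 : S.o 1 t * S.e 2 a b = S.e 2 a b * S.o 1 t := S.o_e1 1 t a b
  have O3 : S.o 1 t * S.o 2 c = S.o 2 c * S.o 1 t := S.o_o1 1 t c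
  have O4 : S.o 1 t * S.e 3 d f = S.e 3 d f * S.o 1 t * S.e 2 0 (t * d) := S.o_e2 1 t d f
  have A3 : S.e 2 a b * S.o 2 c = S.o 2 c * S.e 2 a b := S.e_o0 2 a b c
  have A4 : S.e 2 a b * S.e 3 d f = S.e 3 d f * S.e 2 a b * S.o 2 (a * d) := S.e_e1 2 a b d f
  have C4 : S.o 2 c * S.e 3 d f = S.e 3 d f * S.o 2 c := S.o_e1 2 c d f
  -- the element `e 2 0 _` commutes with everything
  have Z : ∀ (z : F) {k : ℤ} (h1 : 0 ≤ k) (h2 : k ≤ 8) {y : G} (_ : y ∈ S.XZ k), y * S.e 2 0 z = S.e 2 0 z * y :=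
    fun z k h1 h2 y hy => S.comm_Z4 h1 h2 hy z
  have Z3 : ∀ (z : F), S.e 3 d f * S.e 2 0 z = S.e 2 0 z * S.e 3 d f := fun z => Z z (k := 6) (by norm_num) (by norm_num) (S.mX6 d f)
  have Z5 : ∀ (z : F) (y : F), S.o 2 y * S.e 2 0 z = S.e 2 0 z * S.o 2 y := fun z y => Z z (k := 5) (by norm_num) (by norm_num) (S.mX5 y)
  have Zo : ∀ (z : F), S.o 1 t * S.e 2 0 z = S.e 2 0 z * S.o 1 t := fun z => Z z (k := 3) (by norm_num) (by norm_num) (S.mX3 t)
  have Ze : ∀ (z : F), S.e 2 a b * S.e 2 0 z = S.e 2 0 z * S.e 2 a b := fun z => Z z (k := 4) (by norm_num) (by norm_num) (S.mX4 a b)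
  have sE : S.e 1 0 u * S.e 1 0 u = 1 := by rw [Arc.e_sq, zero_mul, S.e_zero]
  have sO : S.o 1 t * S.o 1 t = 1 := by rw [S.o_add, S.add_self, S.o_zero]
  have sC : S.o 2 c * S.o 2 c = 1 := by rw [S.o_add, S.add_self, S.o_zero]
  have sA : S.e 2 a b * S.e 2 a b = S.e 2 0 (a * σ a) := Arc.e_sq S 2 a b
  have sF : S.e 3 d f * S.e 3 d f = S.e 3 0 (d * σ d) := Arc.e_sq S 3 d f
  have sW : S.e 2 0 (t * d) * S.e 2 0 (t * d) = 1 := by rw [Arc.e_sq, zero_mul, S.e_zero]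
  have sX : S.o 2 (a * d) * S.o 2 (a * d) = 1 := by rw [S.o_add, S.add_self, S.o_zero]
  -- `E` commutes with the rest
  set j := S.e 2 a b * S.o 2 c * S.e 3 d f with hj
  have hE : S.e 1 0 u * (S.o 1 t * j) = S.o 1 t * j * S.e 1 0 u := by
    rw [hj]
    calc S.e 1 0 u * (S.o 1 t * (S.e 2 a b * S.o 2 c * S.e 3 d f)) =
        (S.e 1 0 u * S.o 1 t) * S.e 2 a b * S.o 2 c * S.e 3 d f := by group
      _ = S.o 1 t * (S.e 1 0 u * S.e 2 a b) * S.o 2 c * S.e 3 d f := by rw [E1]; group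
      _ = S.o 1 t * S.e 2 a b * (S.e 1 0 u * S.o 2 c) * S.e 3 d f := by rw [E2]; group
      _ = S.o 1 t * S.e 2 a b * S.o 2 c * (S.e 1 0 u * S.e 3 d f) := by rw [E3]; group
      _ = _ := by rw [E4]; group
  have hO : S.o 1 t * j = j * S.o 1 t * S.e 2 0 (t * d) := by
    rw [hj]
    calc S.o 1 t * (S.e 2 a b * S.o 2 c * S.e 3 d f) = (S.o 1 t * S.e 2 a b) * S.o 2 c * S.e 3 d f := by group
      _ = S.e 2 a b * (S.o 1 t * S.o 2 c) * S.e 3 d f := by rw [O2]; group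
      _ = S.e 2 a b * S.o 2 c * (S.o 1 t * S.e 3 d f) := by rw [O3]; group
      _ = _ := by rw [O4]; group
  have hj2 : j * j = S.e 2 0 (a * σ a) * S.e 3 0 (d * σ d) * S.o 2 (a * d) := by
    have h1 : S.e 3 d f * S.e 2 a b = S.e 2 a b * S.e 3 d f * S.o 2 (a * d) := by
      rw [A4, mul_assoc, sX, mul_one]
    have hXF : S.e 3 d f * S.o 2 (a * d) = S.o 2 (a * d) * S.e 3 d f := (S.o_e1 2 (a * d) d f).symm
    rw [hj]
    calc S.e 2 a b * S.o 2 c * S.e 3 d f * (S.e 2 a b * S.o 2 c * S.e 3 d f) =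
        S.e 2 a b * S.o 2 c * (S.e 3 d f * S.e 2 a b) * (S.o 2 c * S.e 3 d f) := by group
      _ = S.e 2 a b * S.o 2 c * (S.e 2 a b * S.e 3 d f * S.o 2 (a * d)) * (S.e 3 d f * S.o 2 c) := by rw [h1, C4]
      _ = S.e 2 a b * (S.o 2 c * S.e 2 a b) * S.e 3 d f * (S.o 2 (a * d) * S.e 3 d f) * S.o 2 c := by group
      _ = S.e 2 a b * (S.e 2 a b * S.o 2 c) * S.e 3 d f * (S.e 3 d f * S.o 2 (a * d)) * S.o 2 c := by rw [← A3, ← hXF]
      _ = (S.e 2 a b * S.e 2 a b) * S.o 2 c * (S.e 3 d f * S.e 3 d f) * S.o 2 (a * d) * S.o 2 c := by group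
      _ = S.e 2 0 (a * σ a) * (S.o 2 c * S.e 3 0 (d * σ d)) * (S.o 2 (a * d) * S.o 2 c) := by rw [sA, sF]; group
      _ = S.e 2 0 (a * σ a) * (S.e 3 0 (d * σ d) * S.o 2 c) * (S.o 2 c * S.o 2 (a * d)) := by
          have C5 : S.o 2 c * S.e 3 0 (d * σ d) = S.e 3 0 (d * σ d) * S.o 2 c := S.o_e1 2 c 0 (d * σ d)
          rw [C5, S.o_add, S.o_add, add_comm c]
      _ = S.e 2 0 (a * σ a) * S.e 3 0 (d * σ d) * (S.o 2 c * S.o 2 c) * S.o 2 (a * d) := by group
      _ = _ := by rw [sC, mul_one]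
  calc S.e 1 0 u * S.o 1 t * j * (S.e 1 0 u * S.o 1 t * j) =
      S.e 1 0 u * (S.o 1 t * j * S.e 1 0 u) * (S.o 1 t * j) := by group
    _ = (S.e 1 0 u * S.e 1 0 u) * (S.o 1 t * j) * (S.o 1 t * j) := by rw [← hE]; group
    _ = S.o 1 t * j * (S.o 1 t * j) := by rw [sE, one_mul]
    _ = S.o 1 t * (j * S.o 1 t) * j := by group
    _ = S.o 1 t * (S.o 1 t * j * S.e 2 0 (t * d)) * j := by
        have h2 : j * S.o 1 t = S.o 1 t * j * S.e 2 0 (t * d) := by
          rw [hO, mul_assoc (j * S.o 1 t), sW, mul_one]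
        rw [h2]
    _ = (S.o 1 t * S.o 1 t) * (j * S.e 2 0 (t * d)) * j := by group
    _ = S.e 2 0 (t * d) * (j * j) := by
        have h3 : j * S.e 2 0 (t * d) = S.e 2 0 (t * d) * j := by
          rw [hj]
          calc S.e 2 a b * S.o 2 c * S.e 3 d f * S.e 2 0 (t * d) = S.e 2 a b * S.o 2 c * (S.e 3 d f * S.e 2 0 (t * d)) := by
                group
            _ = S.e 2 a b * (S.o 2 c * S.e 2 0 (t * d)) * S.e 3 d f := by rw [Z3]; group
            _ = (S.e 2 a b * S.e 2 0 (t * d)) * S.o 2 c * S.e 3 d f := by rw [Z5]; group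
            _ = _ := by rw [Ze]; group
        rw [sO, one_mul, h3, mul_assoc]
    _ = _ := by
        rw [hj2, ← mul_assoc, ← mul_assoc, S.e_mul]
        (with_reducible congr 3)
        · ring
        · rw [map_zero, mul_zero, add_zero, add_comm]

/-- a product `z_4 z_6 ∈ X_5` is trivial -/
theorem W46_zero {u v : F} (h : S.e 2 0 u * S.e 3 0 v ∈ S.XZ 5) : u = 0 ∧ v = 0 := by
  have h1 := S.W46_inf ⟨u, v, rfl⟩ h
  have h2 : S.e 2 0 u = (S.e 3 0 v)⁻¹ := eq_inv_of_mul_eq_one_left h1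
  have h3 : S.e 2 0 u ∈ S.XZ 4 := S.mX4 0 u
  have h4 : S.e 2 0 u ∈ J S.XZ 5 6 := by
    rw [h2]
    exact inv_mem (mem_J (S.mX6 0 v) (by norm_num) (by norm_num))
  have h5 := S.zsys8.inter 4 _ h3 (J_mono le_rfl (by norm_num) h4)
  rw [h5, one_mul] at h1
  exact ⟨(S.e_eq_one h5).2, (S.e_eq_one h1).2⟩

include hF hR in
/-- the elements of `D` in `Z_2 X_3 X_4 X_5 X_6` -/
theorem mem_X5_of_form {p : ℕ} (hp : p.Prime) (hp2 : p ≠ 2) (hpq : ¬ p ∣ Nat.card F - 1) {x : G} (hx : orderOf x = p)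
    (hxH : x ∈ S.HO) {u : F} {r : G} (hr : r ∈ J S.XZ 3 6) (hc : S.e 1 0 u * r * x = x * (S.e 1 0 u * r)) :
    S.e 1 0 u * r ∈ S.XZ 5 := by
  have hxp : x ^ p = 1 := by rw [← hx]; exact pow_orderOf_eq_one x
  have hx1 : x ≠ 1 := by
    rintro rfl
    rw [orderOf_one] at hx
    exact hp.one_lt.ne hx
  have Z8 := S.zsys8
  obtain ⟨x3, hx3, r1, hr1, rfl⟩ := Z8.split_ll (a := 3) (b := 6) (by norm_num) (by norm_num) hr
  obtain ⟨x4, hx4, r2, hr2, rfl⟩ := Z8.split_ll (a := 3 + 1) (b := 6) (by norm_num) (by norm_num) hr1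
  obtain ⟨x5, hx5, r3, hr3, rfl⟩ := Z8.split_ll (a := 3 + 1 + 1) (b := 6) (by norm_num) (by norm_num) hr2
  have hr3' : r3 ∈ S.XZ 6 := mem_of_J_self hr3 (by norm_num)
  obtain ⟨t, rfl⟩ := S.X3 hx3
  obtain ⟨a, b, rfl⟩ := S.X4 hx4
  obtain ⟨c, rfl⟩ := S.X5 hx5
  obtain ⟨d, f, rfl⟩ := S.X6 hr3'
  have e0 : S.e 1 0 u * (S.o 1 t * (S.e 2 a b * (S.o 2 c * S.e 3 d f))) =
      S.e 1 0 u * S.o 1 t * (S.e 2 a b * S.o 2 c * S.e 3 d f) := by group
  rw [e0] at hc ⊢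
  set h := S.e 1 0 u * S.o 1 t * (S.e 2 a b * S.o 2 c * S.e 3 d f) with hh
  have hsq : h * h = S.e 2 0 (a * σ a + t * d) * S.e 3 0 (d * σ d) * S.o 2 (a * d) := sq_form S u t a b c d f
  have h5 : h * h ∈ S.XZ 5 := by
    refine mem_X5_of_V5 S hF hR hp hp2 hpq hxp hx1 hxH ?_ ?_
    · rw [hsq]
      exact mul_mem (mem_sup_left ⟨_, _, rfl⟩) (mem_sup_right (S.mX5 _))
    · rw [mul_assoc, hc, ← mul_assoc, hc, mul_assoc]
  have h6 : S.e 2 0 (a * σ a + t * d) * S.e 3 0 (d * σ d) ∈ S.XZ 5 := by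
    have := mul_mem h5 (inv_mem (S.mX5 (a * d)))
    rwa [hsq, mul_inv_cancel_right] at this
  obtain ⟨h7, h8⟩ := W46_zero S h6
  have hz : ∀ y : F, y * σ y = 0 → y = 0 := by
    intro y hy
    rcases mul_eq_zero.1 hy with h | h
    · exact h
    · exact (map_eq_zero σ).1 h
  have hd := hz d h8
  rw [hd, mul_zero, add_zero] at h7
  have ha := hz a h7
  have h9 : h * h = 1 := by
    rw [hsq, ha, hd]
    simp only [zero_mul, mul_zero, add_zero, S.e_zero, S.o_zero, mul_one]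
  refine inv_mem_X5 S hF hR hp hp2 hpq hx hxH ?_ h9 hc
  rw [hh]
  exact mul_mem (mul_mem (mem_J (S.mX2 0 u) (by norm_num) (by norm_num)) (mem_J (S.mX3 t) (by norm_num) (by norm_num)))
    (mul_mem (mul_mem (mem_J (S.mX4 a b) (by norm_num) (by norm_num)) (mem_J (S.mX5 c) (by norm_num) (by norm_num)))
      (mem_J (S.mX6 d f) (by norm_num) (by norm_num)))

/-- `th` and elements of `HO` -/
theorem th_conj' {y r : G} (hy : y ∈ S.HO) : th S (y * r * y⁻¹) = y * th S r * y⁻¹ := by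
  have h1 : y * S.o 2 1 = S.o 2 1 * y :=
    ((Subgroup.mem_centralizer_iff.1 (S.HO_le_cent hy)) _ (o21_mem S)).symm
  have h2 : y⁻¹ * S.o 2 1 * y = S.o 2 1 := by
    rw [mul_assoc, ← h1, inv_mul_cancel_left]
  have h3 : y * (S.o 2 1)⁻¹ * y⁻¹ = (S.o 2 1)⁻¹ := by
    have h4 : y * (S.o 2 1)⁻¹ = (S.o 2 1)⁻¹ * y := Commute.inv_right (show Commute y (S.o 2 1) from h1)
    rw [h4, mul_inv_cancel_right]
  calc th S (y * r * y⁻¹) = y * r * (y⁻¹ * S.o 2 1 * y) * r⁻¹ * y⁻¹ * (S.o 2 1)⁻¹ := by unfold th; group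
    _ = y * r * S.o 2 1 * r⁻¹ * y⁻¹ * (y * (S.o 2 1)⁻¹ * y⁻¹) := by rw [h2, h3]
    _ = _ := by unfold th; group

include hF hR in
/-- **class 2B**: `|C_{J 2 8}(x)| ≤ q³` -/
theorem card_D28 {p : ℕ} (hp : p.Prime) (hp2 : p ≠ 2) (hpq : ¬ p ∣ Nat.card F - 1) {x : G} (hx : orderOf x = p)
    (hxH : x ∈ S.HO) : Nat.card ↥(J S.XZ 2 8 ⊓ centralizer ({x} : Set G)) ≤ Nat.card F ^ 3 := by
  have hxp : x ^ p = 1 := by rw [← hx]; exact pow_orderOf_eq_one x
  have hx1 : x ≠ 1 := by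
    rintro rfl
    rw [orderOf_one] at hx
    exact hp.one_lt.ne hx
  have hNO : ∀ c : ↥(J S.XZ 2 8 ⊓ centralizer ({x} : Set G)), (c : G) ∈ S.NO := by
    intro c
    have hcx := mem_centralizer_singleton_iff.1 c.2.2
    refine mem_NO_of_th S c.2.1 ?_
    by_contra h1
    have h2 : x * (c : G) * x⁻¹ = c := by rw [← hcx, mul_inv_cancel_right]
    have h3 := th_conj' S (y := x) (r := (c : G)) hxH
    rw [h2] at h3
    refine hpq (Cfsg.Agent.PreUniq.LowExc.TwF4.ho_case S hF hR hp hp2 hxp hx1 hxH (th_mem S c.2.1) h1 ?_)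
    exact (eq_mul_inv_iff_mul_eq.1 h3).symm
  have hform : ∀ c : ↥(J S.XZ 2 8 ⊓ centralizer ({x} : Set G)), ∃ u s v : F, ∃ r ∈ J S.XZ 3 6,
      (c : G) = S.e 1 0 u * r * S.o 3 s * S.e 4 0 v := by
    intro c
    obtain ⟨u, v, r, hr, e⟩ := S.mem_NO_iff.1 (hNO c)
    obtain ⟨r', hr', y, hy, rfl⟩ := S.zsys8.split_rr (a := 3) (b := 7) (by norm_num) (by norm_num) hr
    obtain ⟨s, rfl⟩ := S.X7 hy
    refine ⟨u, s, v, r', J_mono le_rfl (by norm_num) hr', ?_⟩
    rw [e]; group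
  choose u s v r hr hf using hform
  have h1 := card_le_of_fib (D := J S.XZ 2 8 ⊓ centralizer ({x} : Set G)) (E := S.XZ 5) (T := F × F)
    (fun c => (s c, v c)) (fun c c' h => by
      have hs : s c = s c' := congrArg Prod.fst h
      have hv : v c = v c' := congrArg Prod.snd h
      have e1 : (c : G) * (c' : G)⁻¹ = S.e 1 0 (u c) * (r c * (r c')⁻¹) * (S.e 1 0 (u c'))⁻¹ := by
        rw [hf c, hf c', hs, hv]; group
      have e2 : (S.e 1 0 (u c'))⁻¹ = S.e 1 0 (u c') := by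
        rw [Arc.e_inv, zero_mul, add_zero]
      -- move `e 1 0` to the left
      have h2 : S.e 1 0 (u c') * (r c * (r c')⁻¹) * (S.e 1 0 (u c'))⁻¹ ∈ J S.XZ 3 6 := by
        have h3 := S.zsys8.conj_J (a := 3) (b := 6) (c := 2) (d := 2) (by norm_num) (by norm_num) (by norm_num)
          (mem_J (S.mX2 0 (u c')) le_rfl le_rfl) (mul_mem (hr c) (inv_mem (hr c')))
        exact h3
      have e3 : (c : G) * (c' : G)⁻¹ = S.e 1 0 (u c + u c') *
          (S.e 1 0 (u c') * (r c * (r c')⁻¹) * (S.e 1 0 (u c'))⁻¹) := by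
        have e4 : S.e 1 0 (u c + u c') * S.e 1 0 (u c') = S.e 1 0 (u c) := by
          rw [S.e_mul, map_zero, mul_zero, add_zero, add_zero, add_assoc, S.add_self, add_zero]
        rw [e1, ← e4]; group
      rw [e3]
      refine mem_X5_of_form S hF hR hp hp2 hpq hx hxH h2 ?_
      rw [← e3]
      exact mem_centralizer_singleton_iff.1 (mul_mem c.2.2 (inv_mem c'.2.2)))
  have h5 : Nat.card (S.XZ 5) = Nat.card F := by
    have := Cfsg.Agent.H42.Tw.card_odd S 2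
    rwa [show (2 : ℤ) * 2 + 1 = 5 by ring] at this
  calc _ ≤ Nat.card (S.XZ 5) * Nat.card (F × F) := h1
    _ = Nat.card F ^ 3 := by rw [h5, Nat.card_prod]; ring

end

end Cfsg.Agent.H67.RG
end

-- part: H448/TwFC/Small
section
/-!
# Centralisers of elements of odd prime order of `²F₄(q)` (helper448)

* `cent_ste_five` : an element `x` of prime order `≥ 5` of `²F₄(q)` commutes with an involution or `|C(x)| ≤ (√q + 1) ^ 4`;
* `cent_ste_q8` : same with `|C(x)| ≤ q ^ 8`;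
* `comm_inv_three` : an element of order `3` of `²F₄(q)` commutes with an involution.
-/

set_option autoImplicit false
set_option linter.unusedSectionVars false

namespace Cfsg.Agent.H448.TwFC

open CoxeterSystem Subgroup Cfsg Cfsg.Lie Cfsg.Lie.ChevalleyDatum
open Cfsg.Agent.ChevalleyStructure Cfsg.Agent.ChevalleyStructure.Elts Cfsg.Agent.ChevalleyStructure.CoxeterGeom
  Cfsg.Agent.ChevalleyStructure.CoxeterGeomTypes Cfsg.Agent.ChevalleyStructure.NPerm
open Cfsg.Agent.Tits.Roots Cfsg.Agent.Tits.Core Cfsg.Agent.Nodes.Reps Cfsg.Agent.Nodes.BNOf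
  Cfsg.Agent.Nodes.RGDChev Cfsg.Agent.Nodes.Bruhat
open Cfsg.Agent.KFacts.RgdField Cfsg.Agent.KFacts.RgdChevCoord Cfsg.Agent.BpExc Cfsg.Agent.BpExc.TorCent
  Cfsg.Agent.BpExc.TorChev Cfsg.Agent.BpExc.Tow Cfsg.Agent.BpExc.TowChev Cfsg.Agent.BpExc.Fr Cfsg.Agent.BpExc.Pair
  Cfsg.Agent.BpExc.LangFr
open Cfsg.Agent.BpExc.FamExt Cfsg.Agent.BpExc.FamUntw Cfsg.Agent.BpExc.FamInst Cfsg.Agent.BpExc.FamField
open Cfsg.Agent.H129.TorusChar
open Cfsg.Agent.H378.TorDual Cfsg.Agent.H378.TorChar Cfsg.Agent.H378.TorFin Cfsg.Agent.H378.LatRoot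
  Cfsg.Agent.H378.Regular
open Cfsg.Agent.H493.F4End Cfsg.Agent.H493.F4Tor Cfsg.Agent.H659.TwF4Ord
open Cfsg.Agent.GpExc.Field (glMap emb coe_emb glMap_xG emb_injective coe_glMap)
open Cfsg.Agent.H448.FprCent

universe u

theorem WF5 {p : ℕ} (hp : p.Prime) (h5 : 5 ≤ p) : ¬ p ∣ Nat.card CoxeterMatrix.F₄.Group := by
  rw [Cfsg.Agent.H525.ExtTw.card_F4]
  intro h
  rw [show (1152 : ℕ) = 2 ^ 7 * 3 ^ 2 by norm_num] at h
  rcases (Nat.Prime.dvd_mul hp).1 h with h1 | h1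
  · have := (Nat.prime_dvd_prime_iff_eq hp Nat.prime_two).1 (hp.dvd_of_dvd_pow h1)
    omega
  · have := (Nat.prime_dvd_prime_iff_eq hp Nat.prime_three).1 (hp.dvd_of_dvd_pow h1)
    omega

theorem cent_ste_five {K : Type u} [Field K] [Fintype K] {m : ℕ} (hm : 1 ≤ m) (hK : Fintype.card K = 2 ^ (2 * m + 1))
    {x : ↥(twistedF4 K (2 ^ m))} {p : ℕ} (hp : p.Prime) (hp5 : 5 ≤ p) (hx : orderOf x = p) :
    (∃ v : ↥(twistedF4 K (2 ^ m)), orderOf v = 2 ∧ Commute v x) ∨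
      (Nat.card ↥(Subgroup.centralizer {x}) : ℝ) ≤ (Real.sqrt (Nat.card K) + 1) ^ 4 := by
  have hKc := Cfsg.Agent.ChevalleyStructure.TwF4.Twisted.charP_two hK
  have h2 : Fact (Nat.Prime 2) := ⟨Nat.prime_two⟩
  obtain ⟨k, _, _, f, r', _, _, n, hk, hka, hn0, hn⟩ := exists_closure K
  have hrr : r' = 2 := by
    have h1 : CharP K r' := RingHom.charP f f.injective r'
    exact CharP.eq K h1 hKc
  subst hrr
  let cs : CoxeterSystem CoxeterMatrix.F₄ CoxeterMatrix.F₄.Group := CoxeterMatrix.F₄.toCoxeterSystem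
  have hWf := finite_W H493.F4Tor.hp cs
  have hσ : BpExc.LangFr.IsFrob 2 n (phi chevF4 k 2 n) :=
    Cfsg.Agent.H666.SigFr.isFrob_fld fun a => frb_apply k 2 n a
  have hFr := Cfsg.Agent.H666.SigFr.fr_fld H493.F4Tor.hp cs (frb k 2 n)
  have hpf : Fact p.Prime := ⟨hp⟩
  have hℓW : ¬ p ∣ Nat.card CoxeterMatrix.F₄.Group := WF5 hp hp5
  set! y0 : ↥(chevF4.group K) := inc K (2 ^ m) x with hy0
  set! y : ↥(chevF4.group k) := emb hD f y0 with hy
  have hinj : Function.Injective (emb hD f) := emb_injective hD f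
  have hxp : x ^ p = 1 := by rw [← hx]; exact pow_orderOf_eq_one x
  have hyp : y ^ p = 1 := by rw [hy, hy0, ← map_pow, ← map_pow, hxp, map_one, map_one]
  have hfix : ∀ z : ↥(chevF4.group K), phi chevF4 k 2 n (emb hD f z) = emb hD f z :=
    phi_emb' H493.F4Tor.hp f 2 hn
  rcases inv_or_regular H493.F4Tor.hp cs hk hka hn0 hσ hFr (hfix y0) hp (by omega) hyp with
    ⟨u, hu, hc, ho⟩ | ⟨t, c, ht, hct, hreg⟩
  · left
    obtain ⟨v, hv, hcv⟩ := H378.RegTw.exists_desc (x := y0) hinj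
      (fun y hy => fix_pow_mem H493.F4Tor.hp f 2 hn BpExc.FamInst.inv_F4 one_ne_zero hy) (by norm_num) hu hc ho
    obtain ⟨u, hu, hγ, hu2⟩ := exists_fixed_inv (C := Subgroup.centralizer {inc K (2 ^ m) x}) (ste K m) (ste_ste_id hK)
      (fun g hg => by
        rw [mem_centralizer_singleton_iff] at hg ⊢
        have h3 := congrArg (ste K m) hg
        rwa [map_mul, map_mul, ste_inc hK] at h3) (v := v) (mem_centralizer_singleton_iff.2 hcv.eq) hv
    have h4 := H493.F4Fix.mem_twisted hK hγ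
    refine ⟨⟨u, h4⟩, ?_, ?_⟩
    · exact (orderOf_injective _ (inc_injective (K := K) (2 ^ m)) ⟨u, h4⟩).symm.trans hu2
    · apply inc_injective (K := K) (2 ^ m)
      rw [map_mul, map_mul]
      exact mem_centralizer_singleton_iff.1 hu
  · right
    have htp : t ^ p = 1 := by
      rw [← hct]
      have h1 := conj_pow (a := c⁻¹) (b := y) (i := p)
      rw [inv_inv] at h1
      rw [h1, hyp]; group
    have hstey : ∀ z : ↥(twistedF4 K (2 ^ m)), ste k m (emb hD f (inc K (2 ^ m) z)) = emb hD f (inc K (2 ^ m) z) := by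
      intro z
      rw [← emb_ste, ste_inc hK]
    set! n0 : ↥(chevF4.group k) := c⁻¹ * ste k m c with hn0'
    have hste : ∀ z : ↥(twistedF4 K (2 ^ m)),
        n0 * ste k m (c⁻¹ * emb hD f (inc K (2 ^ m) z) * c) * n0⁻¹ = c⁻¹ * emb hD f (inc K (2 ^ m) z) * c := by
      intro z
      rw [map_mul, map_mul, map_inv, hstey, hn0']
      group
    have hct' : c⁻¹ * emb hD f (inc K (2 ^ m) x) * c = t := hct
    have htt : n0 * ste k m t * n0⁻¹ = t := by rw [← hct']; exact hste x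
    obtain ⟨m', hm', w, g, hg, hgs, hc'⟩ := exists_form' H493.F4Tor.hp cs hk 2 (s := ste k m t) (t := t) (c := n0)
      (ste_TT (m := m) ht) ht (mul_inv_eq_iff_eq_mul.1 htt)
    rw [MM_eq_bot H493.F4Tor.hp cs hreg, Subgroup.mem_bot] at hm'
    rw [hm', one_mul] at hc'
    rw [← hc'] at hg
    have hmem : ∀ z : ↥(Subgroup.centralizer {x}), c⁻¹ * emb hD f (inc K (2 ^ m) z.1) * c ∈ TT chevF4 k := by
      intro z
      refine mem_TT_of_comm H493.F4Tor.hp cs ht hp hℓW htp hreg ?_ hk 2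
      rw [← hct']
      have h1 := mem_centralizer_singleton_iff.1 z.2
      have h3 : emb hD f (inc K (2 ^ m) z.1) * emb hD f (inc K (2 ^ m) x) =
          emb hD f (inc K (2 ^ m) x) * emb hD f (inc K (2 ^ m) z.1) := by
        rw [← map_mul, ← map_mul, h1, map_mul, map_mul]
      calc c⁻¹ * emb hD f (inc K (2 ^ m) z.1) * c * (c⁻¹ * emb hD f (inc K (2 ^ m) x) * c) =
          c⁻¹ * (emb hD f (inc K (2 ^ m) z.1) * emb hD f (inc K (2 ^ m) x)) * c := by group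
        _ = _ := by rw [h3]; group
    have hdet : ((LinearMap.det (rep cs H493.F4Tor.hp.isCartan w - Rl m) : ℤ) : k) ≠ 0 := det_ne cs _ hm w k
    have hfin : Finite ↥(KerOf k (rep cs H493.F4Tor.hp.isCartan w - Rl m)) := by
      apply Nat.finite_of_card_ne_zero
      rw [card_kerOf k hdet]
      intro h0
      apply hdet
      rw [Int.natAbs_eq_zero.1 h0, Int.cast_zero]
    have hle : Nat.card ↥(Subgroup.centralizer {x}) ≤
        Nat.card ↥(KerOf k (rep cs H493.F4Tor.hp.isCartan w - Rl m)) := by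
      refine Nat.card_le_card_of_injective (fun z : ↥(Subgroup.centralizer {x}) =>
        (⟨tchar H493.F4Tor.hp ⟨_, hmem z⟩, mem_ker cs hk hg (hmem z) (hste z.1)⟩ :
          ↥(KerOf k (rep cs H493.F4Tor.hp.isCartan w - Rl m)))) ?_
      intro a b hab
      have h1 := tchar_injective H493.F4Tor.hp (congrArg Subtype.val hab)
      have h3 : c⁻¹ * emb hD f (inc K (2 ^ m) a.1) * c = c⁻¹ * emb hD f (inc K (2 ^ m) b.1) * c :=
        congrArg Subtype.val h1
      have h4 := mul_left_cancel (mul_right_cancel h3)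
      exact Subtype.ext (inc_injective (K := K) (2 ^ m) (hinj h4))
    rw [card_kerOf k hdet] at hle
    have h5 := det_bound cs H493.F4Tor.hp.isCartan m w
    have h6 : Nat.card K = 2 ^ (2 * m + 1) := by rw [Nat.card_eq_fintype_card, hK]
    rw [h6]
    exact le_trans (by exact_mod_cast hle) h5


theorem sqrt_le {q : ℕ} (hq : 2 ≤ q) : (Real.sqrt q + 1) ^ 4 ≤ ((q ^ 8 : ℕ) : ℝ) := by
  have h1 : (2 : ℝ) ≤ (q : ℝ) := by exact_mod_cast hq
  have h2 : Real.sqrt q ≤ (q : ℝ) := by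
    rw [Real.sqrt_le_left (by linarith)]
    nlinarith only [h1]
  have h3 : Real.sqrt q + 1 ≤ (q : ℝ) ^ 2 := by nlinarith only [h1, h2]
  calc (Real.sqrt q + 1) ^ 4 ≤ ((q : ℝ) ^ 2) ^ 4 := pow_le_pow_left₀ (by positivity) h3 4
    _ = _ := by push_cast; ring

/-- `|C(x)| ≤ q ^ 8` for `x` of prime order `≥ 5` commuting with no involution -/
theorem cent_ste_q8 {K : Type u} [Field K] [Fintype K] {m : ℕ} (hm : 1 ≤ m) (hK : Fintype.card K = 2 ^ (2 * m + 1))
    {x : ↥(twistedF4 K (2 ^ m))} {p : ℕ} (hp : p.Prime) (hp5 : 5 ≤ p) (hx : orderOf x = p) :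
    (∃ v : ↥(twistedF4 K (2 ^ m)), orderOf v = 2 ∧ Commute v x) ∨
      Nat.card ↥(Subgroup.centralizer {x}) ≤ Nat.card K ^ 8 := by
  rcases cent_ste_five hm hK hp hp5 hx with h | h
  · exact Or.inl h
  · right
    have h2 : 2 ≤ Nat.card K := by
      rw [Nat.card_eq_fintype_card, hK]
      calc 2 = 2 ^ 1 := rfl
        _ ≤ _ := Nat.pow_le_pow_right (by norm_num) (by omega)
    exact_mod_cast h.trans (sqrt_le h2)

/-! ### order three -/

theorem root_tab : (∃ r, r < 48 ∧ vec chevF4 4 r = ![0, 1, 1, 0]) ∧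
    ((∃ r, r < 48 ∧ vec chevF4 4 r = ![0, 1, 2, 0]) ∨ (∃ r, r < 48 ∧ vec chevF4 4 r = ![0, 2, 1, 0])) := by
  decide +kernel

/-- **An element of order three of `²F₄(q)` commutes with an involution.** -/
theorem comm_inv_three {K : Type u} [Field K] [Fintype K] {m : ℕ} (hK : Fintype.card K = 2 ^ (2 * m + 1))
    {x : ↥(twistedF4 K (2 ^ m))} (hx : orderOf x = 3) :
    ∃ v : ↥(twistedF4 K (2 ^ m)), orderOf v = 2 ∧ Commute v x := by
  have hKc := Cfsg.Agent.ChevalleyStructure.TwF4.Twisted.charP_two hK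
  have h2 : Fact (Nat.Prime 2) := ⟨Nat.prime_two⟩
  obtain ⟨k, _, _, f, r', _, _, n, hk, hka, hn0, hn⟩ := exists_closure K
  have hrr : r' = 2 := by
    have h1 : CharP K r' := RingHom.charP f f.injective r'
    exact CharP.eq K h1 hKc
  subst hrr
  let cs : CoxeterSystem CoxeterMatrix.F₄ CoxeterMatrix.F₄.Group := CoxeterMatrix.F₄.toCoxeterSystem
  have hWf := finite_W H493.F4Tor.hp cs
  have hσ : BpExc.LangFr.IsFrob 2 n (phi chevF4 k 2 n) :=
    Cfsg.Agent.H666.SigFr.isFrob_fld fun a => frb_apply k 2 n a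
  have hFr := Cfsg.Agent.H666.SigFr.fr_fld H493.F4Tor.hp cs (frb k 2 n)
  set! y0 : ↥(chevF4.group K) := inc K (2 ^ m) x with hy0
  set! y : ↥(chevF4.group k) := emb hD f y0 with hy
  have hinj : Function.Injective (emb hD f) := emb_injective hD f
  have hxp : x ^ 3 = 1 := by rw [← hx]; exact pow_orderOf_eq_one x
  have hyp : y ^ 3 = 1 := by rw [hy, hy0, ← map_pow, ← map_pow, hxp, map_one, map_one]
  have hfix : ∀ z : ↥(chevF4.group K), phi chevF4 k 2 n (emb hD f z) = emb hD f z :=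
    phi_emb' H493.F4Tor.hp f 2 hn
  rcases inv_or_regular H493.F4Tor.hp cs hk hka hn0 hσ hFr (hfix y0) Nat.prime_three (by norm_num) hyp with
    ⟨u, hu, hc, ho⟩ | ⟨t, c, ht, hct, hreg⟩
  · obtain ⟨v, hv, hcv⟩ := H378.RegTw.exists_desc (x := y0) hinj
      (fun y hy => fix_pow_mem H493.F4Tor.hp f 2 hn BpExc.FamInst.inv_F4 one_ne_zero hy) (by norm_num) hu hc ho
    obtain ⟨u, hu, hγ, hu2⟩ := exists_fixed_inv (C := Subgroup.centralizer {inc K (2 ^ m) x}) (ste K m) (ste_ste_id hK)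
      (fun g hg => by
        rw [mem_centralizer_singleton_iff] at hg ⊢
        have h3 := congrArg (ste K m) hg
        rwa [map_mul, map_mul, ste_inc hK] at h3) (v := v) (mem_centralizer_singleton_iff.2 hcv.eq) hv
    have h4 := H493.F4Fix.mem_twisted hK hγ
    refine ⟨⟨u, h4⟩, ?_, ?_⟩
    · exact (orderOf_injective _ (inc_injective (K := K) (2 ^ m)) ⟨u, h4⟩).symm.trans hu2
    · apply inc_injective (K := K) (2 ^ m)
      rw [map_mul, map_mul]
      exact mem_centralizer_singleton_iff.1 hu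
  · exfalso
    have htp : t ^ 3 = 1 := by
      rw [← hct]
      have h1 := conj_pow (a := c⁻¹) (b := y) (i := 3)
      rw [inv_inv] at h1
      rw [h1, hyp]; group
    have hM := isMC_cX H493.F4Tor.hp ht
    have h3 : ∀ z, cX H493.F4Tor.hp t z ^ 3 = 1 := fun z => by
      rw [← cX_pow H493.F4Tor.hp ht, htp, cX_one]
    have hreg' : ∀ a, IsRoot cs H493.F4Tor.hp.isCartan a → cX H493.F4Tor.hp t a ≠ 1 := fun a ha => by
      rw [cX_root H493.F4Tor.hp cs ht ha]; exact hreg a ha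
    have hroot : ∀ a, (∃ r, r < 48 ∧ vec chevF4 4 r = a) → IsRoot cs H493.F4Tor.hp.isCartan a := fun a ha =>
      (isRoot_iff H493.F4Tor.hp cs a).2 (by obtain ⟨r, hr, h⟩ := ha; exact ⟨r, hr, h⟩)
    set! α := cX H493.F4Tor.hp t ![0, 1, 0, 0] with hα
    set! β := cX H493.F4Tor.hp t ![0, 0, 1, 0] with hβ
    have ha : α ≠ 1 := hreg' _ (hroot _ (by decide +kernel))
    have hb : β ≠ 1 := hreg' _ (hroot _ (by decide +kernel))
    have hab : α * β ≠ 1 := by
      have h := hreg' _ (hroot _ root_tab.1)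
      have e : (![0, 1, 1, 0] : Fin 4 → ℤ) = ![0, 1, 0, 0] + ![0, 0, 1, 0] := by decide
      rwa [e, hM.add] at h
    have ha3 : α ^ 3 = 1 := h3 _
    have hb3 : β ^ 3 = 1 := h3 _
    have ha2 : α ^ 2 + α + 1 = 0 := by
      have : (α - 1) * (α ^ 2 + α + 1) = 0 := by linear_combination ha3
      rcases mul_eq_zero.1 this with h | h
      · exact absurd (sub_eq_zero.1 h) ha
      · exact h
    have hb2 : β ^ 2 + β + 1 = 0 := by
      have : (β - 1) * (β ^ 2 + β + 1) = 0 := by linear_combination hb3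
      rcases mul_eq_zero.1 this with h | h
      · exact absurd (sub_eq_zero.1 h) hb
      · exact h
    have hEq : α = β := by
      -- (α - β) (α + β + 1) = 0; if `β = - α - 1 = α ^ 2` then `α β = 1`
      have : (α - β) * (α + β + 1) = 0 := by linear_combination ha2 - hb2
      rcases mul_eq_zero.1 this with h | h
      · exact sub_eq_zero.1 h
      · exact absurd (show α * β = 1 by linear_combination α * h - ha2) hab
    rcases root_tab.2 with h | h
    · have h' := hreg' _ (hroot _ h)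
      have e : (![0, 1, 2, 0] : Fin 4 → ℤ) = ![0, 1, 0, 0] + (![0, 0, 1, 0] + ![0, 0, 1, 0]) := by decide
      rw [e, hM.add, hM.add] at h'
      exact h' (by rw [← hα, ← hβ, ← hEq]; linear_combination ha3)
    · have h' := hreg' _ (hroot _ h)
      have e : (![0, 2, 1, 0] : Fin 4 → ℤ) = ![0, 1, 0, 0] + (![0, 1, 0, 0] + ![0, 0, 1, 0]) := by decide
      rw [e, hM.add, hM.add] at h'
      exact h' (by rw [← hα, ← hβ, ← hEq]; linear_combination ha3)

end Cfsg.Agent.H448.TwFC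
end

-- part: H67/RG/TwFCent
section
/-!
# `²F₄(q)`: the centraliser of an element of odd prime order has order at most `q⁸` (helper67)
-/

set_option autoImplicit false
set_option linter.unusedSectionVars false

namespace Cfsg.Agent.H67.RG

open Cfsg.Agent.KFacts.TwF4 Cfsg.Agent.KFacts.TwF4.Full Cfsg.Agent.KFacts.TwF4.SylU
open Cfsg.Agent.SplitTwo Cfsg.Agent.SplitTwo.ZS Cfsg.Agent.TitsThree.RankTwoZ
open Cfsg.Agent.SplitTwo.RootSysZ Subgroup MulAction Cfsg.Agent.H448.FprTwF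

universe u v

theorem card_centralizer_conj {G : Type*} [Group G] [Finite G] (x k : G) :
    Nat.card ↥(centralizer ({x} : Set G)) ≤ Nat.card ↥(centralizer ({k * x * k⁻¹} : Set G)) := by
  refine Nat.card_le_card_of_injective (fun y => ⟨k * y * k⁻¹, ?_⟩) ?_
  · rw [mem_centralizer_singleton_iff]
    have h := mem_centralizer_singleton_iff.1 y.2
    calc k * y * k⁻¹ * (k * x * k⁻¹) = k * ((y : G) * x) * k⁻¹ := by group
      _ = k * (x * y) * k⁻¹ := by rw [h]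
      _ = _ := by group
  · intro a b hab
    have h : k * (a : G) * k⁻¹ = k * (b : G) * k⁻¹ := congrArg Subtype.val hab
    exact Subtype.ext (mul_left_cancel (mul_right_cancel h))

theorem num17 {q d : ℕ} (hq : 1 ≤ q) (hd : d ≤ q ^ 2) : (d + 1) * ((q ^ 2 + 1) * (d * (q - 1))) ≤ q ^ 8 := by
  obtain ⟨r, rfl⟩ : ∃ r, q = r + 1 := ⟨q - 1, by omega⟩
  rw [Nat.add_sub_cancel]
  calc (d + 1) * (((r + 1) ^ 2 + 1) * (d * r)) ≤ ((r + 1) ^ 2 + 1) * (((r + 1) ^ 2 + 1) * ((r + 1) ^ 2 * r)) := by gcongr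
    _ ≤ _ := by
      have e : (r + 1) ^ 8 = ((r + 1) ^ 2 + 1) * (((r + 1) ^ 2 + 1) * ((r + 1) ^ 2 * r)) +
        (r + 1) ^ 2 * (r ^ 6 + 5 * r ^ 5 + 11 * r ^ 4 + 12 * r ^ 3 + 7 * r ^ 2 + 2 * r + 1) := by ring
      rw [e]
      exact Nat.le_add_right _ _

theorem num28 {q d : ℕ} (hq : 1 ≤ q) (hd : d ≤ q ^ 3) : (d + 1) * ((q + 1) * (d * (q - 1))) ≤ q ^ 8 := by
  obtain ⟨r, rfl⟩ : ∃ r, q = r + 1 := ⟨q - 1, by omega⟩
  rw [Nat.add_sub_cancel]
  calc (d + 1) * ((r + 1 + 1) * (d * r)) ≤ ((r + 1) ^ 3 + 1) * ((r + 1 + 1) * ((r + 1) ^ 3 * r)) := by gcongr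
    _ ≤ _ := by
      have e : (r + 1) ^ 8 = ((r + 1) ^ 3 + 1) * ((r + 1 + 1) * ((r + 1) ^ 3 * r)) +
        (r + 1) ^ 3 * (r ^ 3 + 2 * r ^ 2 + r + 1) := by ring
      rw [e]
      exact Nat.le_add_right _ _

/-- **An element of prime order `p ∤ 2 (q - 1)` commuting with an involution.** -/
theorem card_cent_inv {F : Type u} [Field F] {σ : F →+* F} {G : Type v} [Group G] (S : Full σ G) [Finite G] [Finite F]
    (hF : ∃ c : Fˣ, c ≠ 1) (hR : S.R.p = 2) {p : ℕ} (hp : p.Prime) (hp2 : p ≠ 2) (hpq : ¬ p ∣ Nat.card F - 1)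
    {x t : G} (hx : orderOf x = p) (ht : orderOf t = 2) (hc : Commute t x) :
    Nat.card ↥(centralizer ({x} : Set G)) ≤ Nat.card F ^ 8 := by
  have hq : 1 ≤ Nat.card F := Nat.card_pos
  have ht2 : t * t = 1 := by rw [← pow_two, ← ht]; exact pow_orderOf_eq_one t
  have ht1 : t ≠ 1 := by
    rintro rfl
    rw [orderOf_one] at ht
    exact absurd ht (by norm_num)
  have ho : ∀ k : G, orderOf (k * x * k⁻¹) = p := by
    intro k
    rw [← hx]
    exact orderOf_injective (MulAut.conj k).toMonoidHom (MulAut.conj k).injective x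
  have hpow : ∀ {y : G}, orderOf y = p → y ^ p = 1 ∧ y ≠ 1 := by
    intro y hy
    refine ⟨by rw [← hy]; exact pow_orderOf_eq_one y, ?_⟩
    rintro rfl
    rw [orderOf_one] at hy
    exact hp.one_lt.ne hy
  have hcen : ∀ k : G, k * x * k⁻¹ * (k * t * k⁻¹) = k * t * k⁻¹ * (k * x * k⁻¹) := by
    intro k
    calc k * x * k⁻¹ * (k * t * k⁻¹) = k * (x * t) * k⁻¹ := by group
      _ = k * (t * x) * k⁻¹ := by rw [hc.eq]
      _ = _ := by group
  rcases classes S hF hR ht2 ht1 with ⟨u, hu, k, hk⟩ | ⟨s, hs, k, hk⟩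
  · have e1 : S.rot * (S.rot * k) * t * (S.rot * (S.rot * k))⁻¹ = S.e 2 0 u := by
      calc S.rot * (S.rot * k) * t * (S.rot * (S.rot * k))⁻¹ = S.rot * (S.rot * (k * t * k⁻¹) * S.rot⁻¹) * S.rot⁻¹ := by
            group
        _ = S.e 2 0 u := by rw [hk, S.rot_e, S.rot_e]; rfl
    have hz1 : S.e 2 0 u ≠ 1 := fun h => hu (S.e_eq_one h).2
    set g := S.rot * (S.rot * k)
    have h1 : g * x * g⁻¹ ∈ S.PL := by
      rw [← S.centralizer_z (z := S.e 2 0 u) ⟨u, rfl⟩ hz1, Subgroup.mem_centralizer_singleton_iff, ← e1]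
      exact hcen _
    obtain ⟨h2, h3⟩ := hpow (ho g)
    exact (card_centralizer_conj x g).trans ((card_cent17 hF hR hp hp2 hpq h2 h3 (PL_le_N17 S h1)).trans
      (num17 hq (card_D17 S hF hR hp hp2 hpq (ho g) h1)))
  · have e1 : S.rot * (S.rot * k) * t * (S.rot * (S.rot * k))⁻¹ = S.o 2 s := by
      calc S.rot * (S.rot * k) * t * (S.rot * (S.rot * k))⁻¹ = S.rot * (S.rot * (k * t * k⁻¹) * S.rot⁻¹) * S.rot⁻¹ := by
            group
        _ = S.o 2 s := by rw [hk, S.rot_o, S.rot_o]; rfl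
    set g := S.rot * (S.rot * k)
    have h1 : g * x * g⁻¹ ∈ S.HO := by
      rw [← S.centralizer_o hs, Subgroup.mem_centralizer_singleton_iff, ← e1]
      exact hcen _
    obtain ⟨h2, h3⟩ := hpow (ho g)
    exact (card_centralizer_conj x g).trans ((card_cent28 hF hR hp hp2 hpq h2 h3 (HO_le_N28 S h1)).trans
      (num28 hq (card_D28 S hF hR hp hp2 hpq (ho g) h1)))

open Cfsg.Lie

/-- **T3**: `|C(x)| ≤ q⁸` for every `x ∈ ²F₄(q)` of odd prime order, `q ≥ 8`. -/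
theorem card_cent_le {K : Type u} [Field K] [Fintype K] {m : ℕ} (hm : 1 ≤ m) (hK : Fintype.card K = 2 ^ (2 * m + 1))
    {x : ↥(twistedF4 K (2 ^ m))} {p : ℕ} (hp : p.Prime) (hp2 : p ≠ 2) (hx : orderOf x = p) :
    Nat.card ↥(centralizer ({x} : Set ↥(twistedF4 K (2 ^ m)))) ≤ Nat.card K ^ 8 := by
  have hcK : Nat.card K = 2 ^ (2 * m + 1) := by rw [Nat.card_eq_fintype_card, hK]
  have h8 : 8 ≤ Nat.card K := by
    rw [hcK]
    calc 8 = 2 ^ 3 := by norm_num
      _ ≤ _ := Nat.pow_le_pow_right (by norm_num) (by omega)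
  by_cases hpq : p ∣ Nat.card K - 1
  · exact Cfsg.Agent.H448.TwFC.card_cent_minus hm hK hp hpq hx
  obtain ⟨φ, hφ⟩ := Cfsg.Agent.ChevalleyStructure.TwF4.TwistedFix.exists_rln hK
  have := Cfsg.Agent.ChevalleyStructure.TwF4.Twisted.charP_two hK
  have hfin : Finite ↥(twistedF4 K (2 ^ m)) := inferInstance
  have hF : ∃ c : Kˣ, c ≠ 1 := by
    have h1 : 1 < Nat.card Kˣ := by
      rw [Nat.card_units]
      omega
    have h2 : Nontrivial Kˣ := Finite.one_lt_card_iff_nontrivial.1 h1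
    exact exists_ne 1
  obtain ⟨S, hS⟩ : ∃ S : Full φ ↥(twistedF4 K (2 ^ m)), S.R.p = 2 :=
    ⟨Cfsg.Agent.KFacts.TwF4.Inst.full hK hφ, rfl⟩
  by_cases h3 : p = 3
  · subst h3
    obtain ⟨v, hv, hc⟩ := Cfsg.Agent.H448.TwFC.comm_inv_three hK hx
    exact card_cent_inv S hF hS hp hp2 hpq hx hv hc
  · have hp5 : 5 ≤ p := by
      have h4 := hp.two_le
      by_contra hcon
      have h5 : p = 2 ∨ p = 3 ∨ p = 4 := by omega
      rcases h5 with h | h | h
      · exact hp2 h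
      · exact h3 h
      · rw [h] at hp
        exact absurd hp (by norm_num)
    rcases Cfsg.Agent.H448.TwFC.cent_ste_q8 hm hK hp hp5 hx with ⟨v, hv, hc⟩ | h
    · exact card_cent_inv S hF hS hp hp2 hpq hx hv hc
    · exact h

end Cfsg.Agent.H67.RG
end
end
end
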